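import Groth.Agent.L15.TFCurve.Special
import Groth.Agent.L16.Exist.Proper
import Groth.Agent.L16.CohKernel
import Groth.Agent.L16.Rees.FibreMonoEpi
import Mathlib.RingTheory.Filtration
import Mathlib.RingTheory.Nakayama

/-!
# The limit quotient of a chain of submodules over a complete discrete valuation ring
-/

set_option autoImplicit false
set_option linter.style.haveILetI false
set_option backward.isDefEq.respectTransparency false
set_option backward.isDefEq.respectTransparency.types false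

universe u

open CategoryTheory CategoryTheory.Limits AlgebraicGeometry TopologicalSpace Opposite

noncomputable section

namespace Groth.L15.TFCurve

open Groth.L21.Mod (stalkF)
open Formal (smulMod smulFamily modPow modPowπ modPowTrans)
open Groth.L16 (Existence.epi_modPowπ Existence.modPow_desc)

variable {R : Type u} [CommRing R] {Y : Scheme.{u}}

/-- The linear map on stalks. -/
def st {A B : Y.Modules} (φ : A ⟶ B) (y : Y) : A.presheaf.stalk y →ₗ[Y.presheaf.stalk y] B.presheaf.stalk y :=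
  ((DerSch.stalkFunctor Y y).map φ).hom

theorem st_apply {A B : Y.Modules} (φ : A ⟶ B) (y : Y) (a : A.presheaf.stalk y) :
    st φ y a = (stalkF Y y).map φ a := rfl

theorem st_comp {A B C : Y.Modules} (φ : A ⟶ B) (ψ : B ⟶ C) (y : Y) (a : A.presheaf.stalk y) :
    st (φ ≫ ψ) y a = st ψ y (st φ y a) := stalkF_map_comp φ ψ y a

theorem st_id (A : Y.Modules) (y : Y) (a : A.presheaf.stalk y) : st (𝟙 A) y a = a := by
  rw [st_apply, CategoryTheory.Functor.map_id]; rfl

theorem st_zero {A B : Y.Modules} (y : Y) (a : A.presheaf.stalk y) : st (0 : A ⟶ B) y a = 0 :=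
  stalkF_map_zero y a

theorem st_exact_cokernel {A B : Y.Modules} (φ : A ⟶ B) (y : Y) {b : B.presheaf.stalk y} :
    st (cokernel.π φ) y b = 0 ↔ ∃ a, st φ y a = b :=
  ⟨fun h => stalk_exact (ShortComplex.exact_cokernel φ) y h,
    fun ⟨a, ha⟩ => ha ▸ stalk_comp_eq_zero (cokernel.condition φ) y a⟩

theorem st_kernel {A B : Y.Modules} (φ : A ⟶ B) (y : Y) {a : A.presheaf.stalk y} :
    st φ y a = 0 ↔ ∃ c, st (kernel.ι φ) y c = a :=
  ⟨fun h => stalk_exact (ShortComplex.exact_kernel φ) y h,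
    fun ⟨c, hc⟩ => hc ▸ stalk_comp_eq_zero (kernel.condition φ) y c⟩

theorem hom_zero_of_st {A B : Y.Modules} (φ : A ⟶ B) (h : ∀ y a, st φ y a = 0) : φ = 0 := by
  rw [Groth.L21.Mod.eq_zero_iff_stalk]
  intro y
  ext a
  exact h y a

theorem st_surjective {A B : Y.Modules} (φ : A ⟶ B) [Epi φ] (y : Y) : Function.Surjective (st φ y) :=
  stalk_surjective φ y

theorem st_injective {A B : Y.Modules} (φ : A ⟶ B) [Mono φ] (y : Y) : Function.Injective (st φ y) :=
  stalk_injective φ y

/-- The composite inclusions of a chain. -/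
def cmp {In : ℕ → Y.Modules} (ι : ∀ n, In (n + 1) ⟶ In n) : ∀ n, In n ⟶ In 0
  | 0 => 𝟙 _
  | n + 1 => ι n ≫ cmp ι n

theorem mono_cmp {In : ℕ → Y.Modules} (ι : ∀ n, In (n + 1) ⟶ In n) (h : ∀ n, Mono (ι n)) :
    ∀ n, Mono (cmp ι n)
  | 0 => show Mono (𝟙 _) from inferInstance
  | n + 1 => by
      haveI := h n
      haveI := mono_cmp ι h n
      exact mono_comp _ _

theorem cmp_one_stalk {In : ℕ → Y.Modules} (ι : ∀ n, In (n + 1) ⟶ In n) (y : Y) (a : (In 1).presheaf.stalk y) :
    st (cmp ι 1) y a = st (ι 0) y a := by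
  show st (ι 0 ≫ 𝟙 _) y a = _
  rw [Category.comp_id]

theorem cmp_succ_stalk {In : ℕ → Y.Modules} (ι : ∀ n, In (n + 1) ⟶ In n) (n : ℕ) (y : Y)
    (a : (In (n + 1)).presheaf.stalk y) :
    st (cmp ι (n + 1)) y a = st (cmp ι n) y (st (ι n) y a) :=
  st_comp _ _ _ _

section Smul

variable [Y.Over (Spec (CommRingCat.of R))]

theorem stalk_smulMod (M : Y.Modules) (a : R) (y : Y) (m : M.presheaf.stalk y) :
    st (smulMod R M a) y m = (tGerm (Y ↘ Spec (CommRingCat.of R)) a y • m : M.presheaf.stalk y) :=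
  stalkF_map_smulModΓ M _ y m

/-- The kernel on stalks of the projection modulo a power of a principal ideal. -/
theorem modPowπ_stalk_eq_zero_iff (ϖ : R) (n : ℕ) (M : Y.Modules) (y : Y) (m : M.presheaf.stalk y) :
    st (modPowπ (Ideal.span {ϖ}) n M) y m = 0 ↔
      ∃ m' : M.presheaf.stalk y, tGerm (Y ↘ Spec (CommRingCat.of R)) ϖ y ^ n • m' = m := by
  constructor
  · intro h
    obtain ⟨r, hr⟩ := Groth.L16.Existence.modPow_desc (Ideal.span {ϖ}) (n := n)
      (cokernel.π (smulMod R M (ϖ ^ n))) fun b hb => by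
        rw [Ideal.span_singleton_pow, Ideal.mem_span_singleton] at hb
        obtain ⟨c, rfl⟩ := hb
        rw [Groth.L16.Rees.smulMod_mul, Category.assoc, cokernel.condition, comp_zero]
    have h1 : st (cokernel.π (smulMod R M (ϖ ^ n))) y m = 0 := by
      rw [← hr, st_comp, h, map_zero]
    obtain ⟨m', hm'⟩ := (st_exact_cokernel (smulMod R M (ϖ ^ n)) y).1 h1
    refine ⟨m', ?_⟩
    rw [← tGerm_pow, ← stalk_smulMod]
    exact hm'
  · rintro ⟨m', rfl⟩
    rw [← tGerm_pow, ← stalk_smulMod, ← st_comp, Groth.L16.Rees.smulMod_modPowπ (Ideal.span {ϖ}) M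
      (Ideal.pow_mem_pow (Ideal.mem_span_singleton_self ϖ) n)]
    exact st_zero y m'

theorem modPowπ_stalk_eq_zero_iff' {ϖ : R} {I : Ideal R} (hI : I = Ideal.span {ϖ}) (n : ℕ) (M : Y.Modules) (y : Y)
    (m : M.presheaf.stalk y) :
    st (modPowπ I n M) y m = 0 ↔
      ∃ m' : M.presheaf.stalk y, tGerm (Y ↘ Spec (CommRingCat.of R)) ϖ y ^ n • m' = m := by
  subst hI
  exact modPowπ_stalk_eq_zero_iff ϖ n M y m

end Smul

/-- Every nonempty closed subset of a scheme proper over a local ring meets the closed fibre. -/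
theorem exists_mem_closedFibre [IsLocalRing R] (f : Y ⟶ Spec (CommRingCat.of R)) [UniversallyClosed f]
    {Z : Set Y} (hZ : IsClosed Z) (hne : Z.Nonempty) : ∃ x ∈ Z, f x = IsLocalRing.closedPoint R := by
  obtain ⟨z, hz⟩ := hne
  have hc : IsClosed (f '' Z) := f.isClosedMap Z hZ
  obtain ⟨x, hx, hfx⟩ := (IsLocalRing.specializes_closedPoint (f z)).mem_closed hc (Set.mem_image_of_mem _ hz)
  exact ⟨x, hx, hfx⟩

variable [IsDomain R] [IsDiscreteValuationRing R]

theorem not_isUnit_tGerm (f : Y ⟶ Spec (CommRingCat.of R)) {ϖ : R} (hϖ : Irreducible ϖ) {x : Y}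
    (hx : f x = IsLocalRing.closedPoint R) : ¬ IsUnit (tGerm f ϖ x) := by
  intro h
  have hmem : x ∈ Y.basicOpen (Coh.toGlobal f ϖ) := (Scheme.mem_basicOpen _ _ x (show x ∈ (⊤ : Y.Opens) from trivial)).2 h
  have h2 : f x ∈ (Spec (CommRingCat.of R)).basicOpen ((Scheme.ΓSpecIso (CommRingCat.of R)).inv ϖ) := by
    rw [show Coh.toGlobal f ϖ = f.appTop ((Scheme.ΓSpecIso (CommRingCat.of R)).inv ϖ) from rfl,
      ← Scheme.preimage_basicOpen_top] at hmem
    exact hmem
  rw [hx, basicOpen_eq_of_affine] at h2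
  simp only [Iso.inv_hom_id_apply] at h2
  exact h2 ((IsLocalRing.mem_maximalIdeal _).2 hϖ.not_isUnit)

variable [IsAdicComplete (IsLocalRing.maximalIdeal R) R]

set_option maxHeartbeats 1000000 in
/-- A chain of submodules that behaves like the kernels of the reductions of a quotient flat over the base
comes from a quotient flat over the base. -/
theorem exists_limit_quotient (f : Y ⟶ Spec (CommRingCat.of R)) [IsProper f] {ϖ : R} (hϖ : Irreducible ϖ)
    (In : ℕ → Y.Modules) (ι : ∀ n, In (n + 1) ⟶ In n) (hmono : ∀ n, Mono (ι n)) (hcoh : ∀ n, Coh.IsCoh (In n))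
    (hmul : ∀ n (y : Y) (w : (In n).presheaf.stalk y), ∃ a,
      st (ι n) y a = (tGerm f ϖ y • w : (In n).presheaf.stalk y))
    (hgen : ∀ n (y : Y) (a : (In (n + 1)).presheaf.stalk y), ∃ (b : (In (n + 2)).presheaf.stalk y)
      (x : (In 0).presheaf.stalk y), st (cmp ι (n + 1)) y a =
        (st (cmp ι (n + 2)) y b + tGerm f ϖ y • x :
          (In 0).presheaf.stalk y))
    (hdiv : ∀ n (y : Y) (a : (In (n + 1)).presheaf.stalk y) (x : (In 0).presheaf.stalk y),
      st (cmp ι (n + 1)) y a = (tGerm f ϖ y • x : (In 0).presheaf.stalk y) →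
        ∃ w, st (cmp ι n) y w = x) :
    ∃ (F : Y.Modules) (p : In 0 ⟶ F), Epi p ∧ Coh.IsCoh F ∧ FlatMod.IsFlatOver f F ∧
      ∀ (y : Y) (a : (In 0).presheaf.stalk y), (∃ m : F.presheaf.stalk y, (tGerm f ϖ y • m : F.presheaf.stalk y) =
        st p y a) ↔ ∃ b, st (ι 0) y b = a := by
  letI : Y.Over (Spec (CommRingCat.of R)) := ⟨f⟩
  haveI : IsProper (Y ↘ Spec (CommRingCat.of R)) := ‹IsProper f›
  haveI : IsLocallyNoetherian Y := LocallyOfFiniteType.isLocallyNoetherian f
  haveI : CompactSpace Y := QuasiCompact.compactSpace_of_compactSpace f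
  haveI : AlgebraicGeometry.IsNoetherian Y := {}
  let I : Ideal R := IsLocalRing.maximalIdeal R
  have hI : I = Ideal.span {ϖ} := hϖ.maximalIdeal_eq
  haveI hcomp : IsAdicComplete I R := ‹_›
  have hpowmul : ∀ (n : ℕ) (y : Y) (x : (In 0).presheaf.stalk y), ∃ a,
      st (cmp ι n) y a = (tGerm f ϖ y ^ n • x : (In 0).presheaf.stalk y) := by
    intro n
    induction n with
    | zero => intro y x; exact ⟨x, by show st (𝟙 _) y x = _; rw [st_id, pow_zero, one_smul]⟩
    | succ n ih =>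
      intro y x
      obtain ⟨a, ha⟩ := ih y x
      obtain ⟨a', ha'⟩ := hmul n y a
      refine ⟨a', ?_⟩
      rw [cmp_succ_stalk, ha']
      rw [map_smul, ha, pow_succ', mul_smul]
  have hclaim : ∀ (n : ℕ) (y : Y) (a : (In n).presheaf.stalk y), ∃ (b : (In (n + 1)).presheaf.stalk y)
      (x : (In 0).presheaf.stalk y), st (cmp ι n) y a =
        (st (cmp ι (n + 1)) y b + tGerm f ϖ y ^ n • x :
          (In 0).presheaf.stalk y) := by
    intro n
    induction n with
    | zero =>
      intro y a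
      exact ⟨0, st (cmp ι 0) y a, by rw [map_zero, pow_zero, one_smul]; exact (zero_add _).symm⟩
    | succ n ih =>
      intro y a
      obtain ⟨b, x, hbx⟩ := hgen n y a
      obtain ⟨w, hw⟩ := hdiv n y (a - st (ι (n + 1)) y b) x (by
        rw [map_sub, hbx, cmp_succ_stalk ι (n + 1)]
        exact add_sub_cancel_left _ _)
      obtain ⟨b', x', hbx'⟩ := ih y w
      obtain ⟨b'', hb''⟩ := hmul (n + 1) y b'
      refine ⟨b + b'', x', ?_⟩
      rw [hbx, map_add, cmp_succ_stalk ι (n + 1) y b'', hb'']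
      rw [map_smul, ← hw, hbx', smul_add, pow_succ', mul_smul]
      exact (add_assoc _ _ _).symm
  -- the formal module
  let G₀ : ℕ → Y.Modules := fun n => cokernel (cmp ι (n + 1))
  have htr0 : ∀ n, cmp ι (n + 1 + 1) ≫ cokernel.π (cmp ι (n + 1)) = 0 := fun n => by
    show (ι (n + 1) ≫ cmp ι (n + 1)) ≫ _ = 0
    rw [Category.assoc, cokernel.condition, comp_zero]
  let tr₀ : ∀ n, G₀ (n + 1) ⟶ G₀ n := fun n => cokernel.desc _ (cokernel.π (cmp ι (n + 1))) (htr0 n)
  let G : ℕᵒᵖ ⥤ Y.Modules := Functor.ofOpSequence tr₀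
  have hGmap : ∀ n, G.map (homOfLE (Nat.le_succ n)).op = tr₀ n :=
    fun n => Functor.ofOpSequence_map_homOfLE_succ tr₀ n
  let g : ∀ n, In 0 ⟶ G₀ n := fun n => cokernel.π (cmp ι (n + 1))
  haveI : ∀ n, Epi (g n) := fun n => coequalizer.π_epi
  have hgtr : ∀ n, g (n + 1) ≫ tr₀ n = g n := fun n => cokernel.π_desc _ _ _
  have hg0 : ∀ (n : ℕ) (y : Y) (a : (In 0).presheaf.stalk y), st (g n) y a = 0 ↔
      ∃ b, st (cmp ι (n + 1)) y b = a := fun n y a =>
    ⟨fun h => stalk_exact (ShortComplex.exact_cokernel (cmp ι (n + 1))) y h,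
      fun ⟨b, hb⟩ => hb ▸ stalk_comp_eq_zero (cokernel.condition _) y b⟩
  have hgkill : ∀ (n : ℕ) (a : R), a ∈ I ^ (n + 1) → smulMod R (In 0) a ≫ g n = 0 := by
    intro n a ha
    rw [hI, Ideal.span_singleton_pow, Ideal.mem_span_singleton] at ha
    obtain ⟨c, rfl⟩ := ha
    refine hom_zero_of_st _ fun y x => ?_
    rw [st_comp, stalk_smulMod, tGerm_mul, tGerm_pow, mul_smul]
    obtain ⟨a', ha'⟩ := hpowmul (n + 1) y (tGerm f c y • x)
    exact ((hg0 n y _).2 ⟨a', ha'⟩).trans rfl
  have hGf : Formal.IsCohFormal I G := by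
    refine ⟨fun n => (Groth.L16.CohKernel.isCoh_kernel_cokernel (hcoh (n + 1)) (hcoh 0) (cmp ι (n + 1))).2,
      fun n a ha => ?_, fun n => ?_⟩
    · show smulMod R (G₀ n) a = 0
      rw [← cancel_epi (g n), comp_zero, ← Groth.L16.Rees.smulMod_naturality, hgkill n a ha]
    · rw [hGmap]
      have h0 : smulFamily (I ^ (n + 1)) (G₀ (n + 1)) ≫ tr₀ n = 0 := by
        apply Sigma.hom_ext
        intro b
        rw [comp_zero, smulFamily, Sigma.ι_desc_assoc, ← cancel_epi (g (n + 1)), comp_zero, ← Category.assoc,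
          ← Groth.L16.Rees.smulMod_naturality, Category.assoc, hgtr, hgkill n b b.2]
      refine ⟨h0, ?_⟩
      show IsIso (cokernel.desc (smulFamily (I ^ (n + 1)) (G₀ (n + 1))) (tr₀ n) h0)
      let d : modPow I (n + 1) (G₀ (n + 1)) ⟶ G₀ n := cokernel.desc (smulFamily (I ^ (n + 1)) (G₀ (n + 1))) (tr₀ n) h0
      have hd : g (n + 1) ≫ modPowπ I (n + 1) (G₀ (n + 1)) ≫ d = g n := by
        rw [show modPowπ I (n + 1) (G₀ (n + 1)) ≫ d = tr₀ n from cokernel.π_desc _ _ _, hgtr]
      haveI : Epi d := by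
        haveI : Epi ((g (n + 1) ≫ modPowπ I (n + 1) (G₀ (n + 1))) ≫ d) := by
          rw [Category.assoc, hd]; infer_instance
        exact epi_of_epi (g (n + 1) ≫ modPowπ I (n + 1) (G₀ (n + 1))) d
      haveI : Mono d := by
        rw [Groth.L21.Mod.mono_iff_stalk_injective]
        intro y
        refine (injective_iff_map_eq_zero (st d y)).2 fun z hz => ?_
        haveI := Groth.L16.Existence.epi_modPowπ I (n + 1) (G₀ (n + 1))
        obtain ⟨z', rfl⟩ := st_surjective (modPowπ I (n + 1) (G₀ (n + 1))) y z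
        obtain ⟨a, rfl⟩ := st_surjective (g (n + 1)) y z'
        rw [← st_comp, ← st_comp, hd] at hz
        obtain ⟨b, rfl⟩ := (hg0 n y a).1 hz
        obtain ⟨b', x, hbx⟩ := hclaim (n + 1) y b
        rw [hbx, map_add, (hg0 (n + 1) y _).2 ⟨b', rfl⟩, zero_add]
        rw [map_smul]
        exact (modPowπ_stalk_eq_zero_iff' hI (n + 1) (G₀ (n + 1)) y _).2 ⟨_, rfl⟩
      exact isIso_of_mono_of_epi d
  -- algebraisation
  obtain ⟨F, hF, ⟨e⟩⟩ := Groth.L16.Exist.algebraisable I Y G hGf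
  choose φ hφ using fun n => Groth.L16.Existence.modPow_desc I (n := n + 1) (g n) (hgkill n)
  have hφnat : ∀ n, (Formal.completion I (In 0)).map (homOfLE (Nat.le_succ n)).op ≫ φ n =
      φ (n + 1) ≫ G.map (homOfLE (Nat.le_succ n)).op := fun n => by
    haveI := Groth.L16.Existence.epi_modPowπ I (n + 1 + 1) (In 0)
    rw [hGmap, show (Formal.completion I (In 0)).map (homOfLE (Nat.le_succ n)).op = modPowTrans I (n + 1) (In 0) from
      Groth.L16.Existence.completion_tr I (In 0) n]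
    refine (cancel_epi (modPowπ I (n + 1 + 1) (In 0))).1 ?_
    rw [← Category.assoc, Formal.modPowπ_trans, hφ, ← Category.assoc, hφ, hgtr]
  let E : ∀ n, modPow I (n + 1) F ≅ G₀ n := fun n => e.app (op n)
  let Φ : Formal.completion I (In 0) ⟶ G := NatTrans.ofOpSequence φ hφnat
  obtain ⟨p, hp, -⟩ := Groth.L16.HomSh.existsUnique_of_completion I (hcoh 0) hF
    (Groth.L16.Exist.isProperOver_support (hcoh 0) hF) (Φ ≫ e.inv)
  haveI : Coh.IsQCoh F := hF.1
  have hpE : ∀ n, p ≫ modPowπ I (n + 1) F ≫ (E n).hom = g n := fun n => by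
    show p ≫ modPowπ I (n + 1) F ≫ e.hom.app (op n) = g n
    rw [← Category.assoc, ← hp n, NatTrans.comp_app, Category.assoc, Category.assoc, Iso.inv_hom_id_app]
    exact (congrArg (modPowπ I (n + 1) (In 0) ≫ ·) (Category.comp_id _)).trans (hφ n)
  have hkey : ∀ (n : ℕ) (y : Y) (a : (In 0).presheaf.stalk y),
      (∃ m : F.presheaf.stalk y, (tGerm f ϖ y ^ (n + 1) • m : F.presheaf.stalk y) = st p y a) ↔
        ∃ b, st (cmp ι (n + 1)) y b = a := by
    intro n y a
    have h1 := hpE n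
    rw [← hg0, ← h1, st_comp, st_comp]
    refine ((modPowπ_stalk_eq_zero_iff' hI (n + 1) F y _).symm).trans ?_
    refine ⟨fun h => (congrArg (st (E n).hom y) h).trans (map_zero _), fun h => ?_⟩
    exact st_injective (E n).hom y (h.trans (map_zero _).symm)
  have hsurj : ∀ x : Y, f x = IsLocalRing.closedPoint R → Function.Surjective (st p x) := by
    intro x hx
    haveI := Groth.L16.Rees.FibreMonoEpi.finite_stalk hF x
    let P : Submodule (Y.presheaf.stalk x) (F.presheaf.stalk x) := LinearMap.range ((DerSch.stalkFunctor Y x).map p).hom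
    have htop : (⊤ : Submodule (Y.presheaf.stalk x) (F.presheaf.stalk x)) ≤
        P ⊔ Ideal.span {tGerm f ϖ x} • ⊤ := by
      intro m _
      obtain ⟨a, ha⟩ := st_surjective (g 0) x
        (st ((E 0).hom) x (st (modPowπ I 1 F) x m))
      have h1 : st (modPowπ I 1 F) x (m - (show F.presheaf.stalk x from st p x a)) = 0 := by
        refine st_injective ((E 0).hom) x (Eq.trans ?_ (map_zero _).symm)
        rw [map_sub, map_sub, ← ha, ← st_comp, ← st_comp]
        rw [show p ≫ modPowπ I 1 F ≫ (E 0).hom = g 0 from hpE 0]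
        exact sub_self _
      obtain ⟨m', hm'⟩ := (modPowπ_stalk_eq_zero_iff' hI 1 F x _).1 h1
      rw [pow_one] at hm'
      refine Submodule.mem_sup.2 ⟨st p x a, ⟨a, rfl⟩, tGerm f ϖ x • m',
        Submodule.smul_mem_smul (Ideal.mem_span_singleton_self _) trivial, ?_⟩
      exact (congrArg (_ + ·) hm').trans (add_sub_cancel _ _)
    have hle := Submodule.le_of_le_smul_of_le_jacobson_bot Module.Finite.fg_top
      ((Ideal.span_singleton_le_iff_mem _).2 ((IsLocalRing.maximalIdeal_le_jacobson ⊥)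
        ((IsLocalRing.mem_maximalIdeal _).2 (not_isUnit_tGerm f hϖ hx)))) htop
    exact fun m => hle (show m ∈ ⊤ from trivial)
  haveI hepi : Epi p := by
    rw [Groth.L21.Mod.epi_iff_stalk_surjective]
    intro y z
    have hC := (Groth.L16.CohKernel.isCoh_kernel_cokernel (hcoh 0) hF p).2
    by_cases hy : y ∈ CohB1.support (cokernel p)
    · obtain ⟨x, hx, hfx⟩ := exists_mem_closedFibre f (Groth.L16.CohSupport.isClosed_support _ hC.2) ⟨y, hy⟩
      refine absurd (subsingleton_of_forall_eq 0 fun c => ?_) hx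
      obtain ⟨m, rfl⟩ := st_surjective (cokernel.π p) x c
      obtain ⟨a, rfl⟩ := hsurj x hfx m
      exact stalk_comp_eq_zero (cokernel.condition p) x a
    · exact stalk_exact (ShortComplex.exact_cokernel p) y (@Subsingleton.elim _ (not_not.1 hy) _ _)
  have hinj : ∀ x : Y, f x = IsLocalRing.closedPoint R →
      ∀ m : F.presheaf.stalk x, (tGerm f ϖ x • m : F.presheaf.stalk x) = 0 → m = 0 := by
    intro x hx m hm
    haveI := Groth.L16.Rees.FibreMonoEpi.finite_stalk hF x
    obtain ⟨a, rfl⟩ := hsurj x hx m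
    refine (Submodule.mem_bot (Y.presheaf.stalk x)).1 ?_
    rw [← Ideal.iInf_pow_smul_eq_bot_of_isLocalRing (Ideal.span {tGerm f ϖ x}) (M := F.presheaf.stalk x)
      fun h => not_isUnit_tGerm f hϖ hx (Ideal.span_singleton_eq_top.1 h)]
    rw [Submodule.mem_iInf]
    intro n
    rcases n with _ | n
    · simp
    obtain ⟨c, hc⟩ := (hkey (n + 1) x (tGerm f ϖ x • a)).1 ⟨0, by
      rw [smul_zero]; exact hm.symm.trans (stalkF_map_smul p x _ a).symm⟩
    obtain ⟨w, hw⟩ := hdiv (n + 1) x c a hc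
    obtain ⟨m', hm'⟩ := (hkey n x a).2 ⟨w, hw⟩
    rw [Ideal.span_singleton_pow]
    exact hm' ▸ Submodule.smul_mem_smul (Ideal.mem_span_singleton_self _) trivial
  refine ⟨F, p, hepi, hF, isFlatOver_of_injective f hϖ fun y => ?_, fun y a => ?_⟩
  · let t := smulMod R F ϖ
    have hK := (Groth.L16.CohKernel.isCoh_kernel_cokernel hF hF t).1
    have hsub : Subsingleton ((kernel t).presheaf.stalk y) := by
      by_contra hy
      obtain ⟨x, hx, hfx⟩ := exists_mem_closedFibre f (Groth.L16.CohSupport.isClosed_support _ hK.2) ⟨y, hy⟩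
      refine hx (subsingleton_of_forall_eq 0 fun c => st_injective (kernel.ι t) x ?_)
      refine (hinj x hfx _ ?_).trans (map_zero _).symm
      exact (stalk_smulMod F ϖ x _).symm.trans (stalk_comp_eq_zero (kernel.condition t) x c)
    intro m m' h
    refine sub_eq_zero.1 ?_
    obtain ⟨c, hc⟩ := stalk_exact (ShortComplex.exact_kernel t) y (b := m - m')
      ((stalk_smulMod F ϖ y _).trans ((smul_sub _ _ _).trans (sub_eq_zero.2 h)))
    rw [← hc, @Subsingleton.elim _ hsub c 0]
    exact map_zero _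
  · have h := hkey 0 y a
    simp only [zero_add, pow_one] at h
    exact h.trans ⟨fun ⟨b, hb⟩ => ⟨b, (cmp_one_stalk ι y b).symm.trans hb⟩,
      fun ⟨b, hb⟩ => ⟨b, (cmp_one_stalk ι y b).trans hb⟩⟩

end Groth.L15.TFCurve
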