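import Groth.Agent.L15.TFCurve.Combi
import Mathlib.Topology.Homeomorph.Lemmas

/-!
# Semistability passes to the quotient on a subcurve of invariant zero
-/

set_option autoImplicit false
set_option linter.style.haveILetI false
set_option backward.isDefEq.respectTransparency false
set_option backward.isDefEq.respectTransparency.types false

universe u

open CategoryTheory CategoryTheory.Limits AlgebraicGeometry TopologicalSpace Opposite

noncomputable section

namespace Groth.L15.TFCurve

open Groth.L21.Mod (stalkF)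

variable {X : Scheme.{u}}

theorem c₀_specializes {Z : Scheme.{u}} (i : Z ⟶ X) [IsClosedImmersion i] (P : Z.Modules) {ζ z : Z} (h : ζ ⤳ z)
    (h' : i ζ ⤳ i z) (q : ((Scheme.Modules.pushforward i).obj P).presheaf.stalk (i z)) :
    Groth.L17.ClosedPush.c₀ i P ζ (((Scheme.Modules.pushforward i).obj P).presheaf.stalkSpecializes h' q) =
      P.presheaf.stalkSpecializes h (Groth.L17.ClosedPush.c₀ i P z q) := by
  obtain ⟨V, hV, m, rfl⟩ := TopCat.Presheaf.exists_germ_eq ((Scheme.Modules.pushforward i).obj P).presheaf q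
  rw [TopCat.Presheaf.germ_stalkSpecializes_apply]
  refine (Groth.L17.ClosedPush.c₀_germ i P ζ (h'.mem_open V.isOpen hV) m).trans ?_
  refine Eq.trans ?_ (congrArg (fun t => P.presheaf.stalkSpecializes h t) (Groth.L17.ClosedPush.c₀_germ i P z hV m)).symm
  exact (TopCat.Presheaf.germ_stalkSpecializes_apply P.presheaf _ h m).symm

variable {Y : Set X} (hY : IsClosed Y)

theorem uStalk_smul {Z : Scheme.{u}} (i : Z ⟶ X) [IsClosedImmersion i] (N : X.Modules) (x : Z)
    (c : X.presheaf.stalk (i x)) (n : N.presheaf.stalk (i x)) :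
    uStalk i N x (c • n : N.presheaf.stalk (i x)) = (i.stalkMap x c • uStalk i N x n :
      ((Scheme.Modules.pullback i).obj N).presheaf.stalk x) := by
  refine (congrArg (Groth.L17.ClosedPush.c₀ i _ x) (stalkF_map_smul _ _ c n)).trans ?_
  exact Groth.L17.ClosedPush.c₀_smul i _ x c _

theorem irreducibleComponents_subsch (hYs : VecSt.IsSubcurve X Y)
    (hpure : ∀ C ∈ irreducibleComponents (X : Type u), topologicalKrullDim C = 1) :
    ∀ C ∈ irreducibleComponents (VecSt.subsch X Y hY : Type u), topologicalKrullDim C = 1 := by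
  intro C hC
  obtain ⟨ζ, hζ, hζC⟩ := exists_genericPoint_of_component hC
  let ι := VecSt.subschι X Y hY
  have himg : ι '' C = closure {ι ζ} := by
    rw [← hζC, ← ι.isClosedEmbedding.closure_image_eq, Set.image_singleton]
  have hη := subschι_mem_genericPoints hY hYs hζ
  rw [IsHomeomorph.topologicalKrullDim_eq _ ((ι.isEmbedding.homeomorphImage C).isHomeomorph), himg]
  exact hpure _ hη

variable [IsReduced X] [IsLocallyNoetherian X]

theorem stalkMap_ker_generic {ζ : VecSt.subsch X Y hY} (hYs : VecSt.IsSubcurve X Y)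
    (hζ : ζ ∈ genericPoints (VecSt.subsch X Y hY)) :
    RingHom.ker ((VecSt.subschι X Y hY).stalkMap ζ).hom = ⊥ := by
  letI := (isField_stalk (subschι_mem_genericPoints hY hYs hζ)).toField
  exact (Ideal.eq_bot_or_top _).resolve_right (RingHom.ker_ne_top _)

theorem uStalk_injective_generic (N : X.Modules) {ζ : VecSt.subsch X Y hY} (hYs : VecSt.IsSubcurve X Y)
    (hζ : ζ ∈ genericPoints (VecSt.subsch X Y hY)) : Function.Injective (uStalk (VecSt.subschι X Y hY) N ζ) := by
  refine (injective_iff_map_eq_zero _).2 fun n hn => ?_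
  rw [uStalk_eq_zero_iff, stalkMap_ker_generic hY hYs hζ, Submodule.bot_smul, Submodule.mem_bot] at hn
  exact hn

/-- A torsion-free module with support in the subcurve is the direct image of its restriction. -/
theorem uStalk_bijective (hYs : VecSt.IsSubcurve X Y) {G : X.Modules} [Coh.IsQCoh G] (htf : TorSh.IsTorsionFree G)
    (hs : CohB1.support G = Y) (z : VecSt.subsch X Y hY) :
    Function.Bijective (uStalk (VecSt.subschι X Y hY) G z) := by
  refine ⟨(injective_iff_map_eq_zero _).2 fun g hg => stalk_eq_zero G htf _ g fun η hη hsp => ?_,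
    uStalk_surjective _ G z⟩
  by_cases hηY : η ∈ Y
  · obtain ⟨ζ, hζ, rfl⟩ := exists_genericPoint_preimage hY hη hηY
    have hsp' : ζ ⤳ z := (VecSt.subschι X Y hY).isEmbedding.isInducing.specializes_iff.1 hsp
    refine uStalk_injective_generic hY G hYs hζ (Eq.trans ?_ (map_zero _).symm)
    have h1 := c₀_specializes (VecSt.subschι X Y hY) _ hsp' hsp
      ((stalkF X _).map ((Scheme.Modules.pullbackPushforwardAdjunction (VecSt.subschι X Y hY)).unit.app G) g)
    refine (congrArg (Groth.L17.ClosedPush.c₀ (VecSt.subschι X Y hY) _ ζ) (stalkF_map_specializes _ hsp g)).trans ?_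
    refine h1.trans ((congrArg _ hg).trans (map_zero _))
  · rw [← hs] at hηY
    exact @Subsingleton.elim _ (not_not.1 hηY) _ _

theorem subsch_stalk_eq_zero (hYs : VecSt.IsSubcurve X Y) {G : X.Modules} [Coh.IsQCoh G] (htf : TorSh.IsTorsionFree G)
    (hs : CohB1.support G = Y) (z : VecSt.subsch X Y hY)
    (n : ((Scheme.Modules.pullback (VecSt.subschι X Y hY)).obj G).presheaf.stalk z)
    (h0 : ∀ ζ ∈ genericPoints (VecSt.subsch X Y hY), ∀ h : ζ ⤳ z,
      ((Scheme.Modules.pullback (VecSt.subschι X Y hY)).obj G).presheaf.stalkSpecializes h n = 0) : n = 0 := by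
  obtain ⟨g, rfl⟩ := uStalk_surjective (VecSt.subschι X Y hY) G z n
  refine (congrArg _ (stalk_eq_zero G htf _ g fun η hη hsp => ?_)).trans (map_zero _)
  by_cases hηY : η ∈ Y
  · obtain ⟨ζ, hζ, rfl⟩ := exists_genericPoint_preimage hY hη hηY
    have hsp' : ζ ⤳ z := (VecSt.subschι X Y hY).isEmbedding.isInducing.specializes_iff.1 hsp
    refine uStalk_injective_generic hY G hYs hζ (Eq.trans ?_ (map_zero _).symm)
    have h1 := c₀_specializes (VecSt.subschι X Y hY) _ hsp' hsp
      ((stalkF X _).map ((Scheme.Modules.pullbackPushforwardAdjunction (VecSt.subschι X Y hY)).unit.app G) g)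
    refine (congrArg (Groth.L17.ClosedPush.c₀ (VecSt.subschι X Y hY) _ ζ) (stalkF_map_specializes _ hsp g)).trans ?_
    exact h1.trans (h0 ζ hζ hsp')
  · rw [← hs] at hηY
    exact @Subsingleton.elim _ (not_not.1 hηY) _ _

variable {M GY : X.Modules} {πY : M ⟶ GY}

theorem isTF1_subsch (hM : TFOne.IsTF1 X M) (hGY : TFOne.IsQuotOn X M Y GY πY) (hYs : VecSt.IsSubcurve X Y) :
    TFOne.IsTF1 (VecSt.subsch X Y hY) ((Scheme.Modules.pullback (VecSt.subschι X Y hY)).obj GY) := by
  haveI := isReduced_subsch hY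
  haveI : IsLocallyNoetherian (VecSt.subsch X Y hY) := LocallyOfFiniteType.isLocallyNoetherian (VecSt.subschι X Y hY)
  haveI : Coh.IsQCoh GY := hGY.2.1.1
  haveI := hGY.1
  refine ⟨Groth.L16.AffineBC.isCoh_pullback _ hGY.2.1, fun z => ⟨fun r hr a b hab => sub_eq_zero.1 ?_⟩, fun ζ hζ => ?_⟩
  · refine subsch_stalk_eq_zero hY hYs hGY.2.2.1 hGY.2.2.2 z _ fun ζ hζ hsp => ?_
    let N := (Scheme.Modules.pullback (VecSt.subschι X Y hY)).obj GY
    have h0 : (r • (show N.presheaf.stalk z from a - b) : N.presheaf.stalk z) = 0 :=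
      (smul_sub r a b).trans (sub_eq_zero.2 hab)
    have h1 := congrArg (fun t => N.presheaf.stalkSpecializes hsp t) h0
    simp only [map_zero] at h1
    rw [stalkSpecializes_smul] at h1
    letI := (isField_stalk hζ).toField
    exact (smul_eq_zero.1 h1).resolve_left (stalkSpecializes_ne_zero hζ hsp hr)
  · let ι := VecSt.subschι X Y hY
    let N := (Scheme.Modules.pullback ι).obj GY
    have hη := subschι_mem_genericPoints hY hYs hζ
    have hηY : ι ζ ∈ Y := (range_subschι hY).le ⟨ζ, rfl⟩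
    obtain ⟨m₀, hm₀⟩ := exists_ne_zero hM hη
    have hu := uStalk_bijective hY hYs hGY.2.2.1 hGY.2.2.2 ζ
    let n₀ : N.presheaf.stalk ζ := uStalk ι GY ζ ((stalkF X (ι ζ)).map πY m₀)
    let L : (VecSt.subsch X Y hY).presheaf.stalk ζ →ₗ[(VecSt.subsch X Y hY).presheaf.stalk ζ] N.presheaf.stalk ζ :=
      LinearMap.toSpanSingleton _ _ n₀
    have hL : ∀ c : X.presheaf.stalk (ι ζ), L (ι.stalkMap ζ c) =
        uStalk ι GY ζ ((stalkF X (ι ζ)).map πY (c • m₀ : M.presheaf.stalk (ι ζ))) := fun c => by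
      rw [stalkF_map_smul]
      exact (uStalk_smul ι GY ζ c _).symm
    refine ⟨(LinearEquiv.ofBijective L ⟨(injective_iff_map_eq_zero L).2 fun a ha => ?_, fun n => ?_⟩).symm⟩
    · obtain ⟨c, rfl⟩ := ι.stalkMap_surjective ζ a
      rw [hL] at ha
      have h1 := quot_injective hM hGY hη hηY (hu.1 (ha.trans (map_zero _).symm))
      obtain ⟨e⟩ := hM.2.2 _ hη
      letI := (isField_stalk hη).toField
      have h2 := congrArg e h1
      rw [map_smul, map_zero, smul_eq_mul] at h2
      rw [(mul_eq_zero.1 h2).resolve_right (fun h => hm₀ (e.injective (h.trans e.map_zero.symm)))]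
      exact map_zero _
    · obtain ⟨g, rfl⟩ := hu.2 n
      obtain ⟨m, rfl⟩ := (Groth.L21.Mod.epi_iff_stalk_surjective πY).1 inferInstance (ι ζ) g
      obtain ⟨c, rfl⟩ := exists_smul_eq hM hη hm₀ m
      exact ⟨_, hL c⟩

/-- Quotients of the restriction are quotients of the module. -/
theorem isQuotOn_push (hM : TFOne.IsTF1 X M) (hGY : TFOne.IsQuotOn X M Y GY πY) (hYs : VecSt.IsSubcurve X Y)
    {T : Set (VecSt.subsch X Y hY)} {G : (VecSt.subsch X Y hY).Modules}
    {p : (Scheme.Modules.pullback (VecSt.subschι X Y hY)).obj GY ⟶ G}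
    (hG : TFOne.IsQuotOn (VecSt.subsch X Y hY) ((Scheme.Modules.pullback (VecSt.subschι X Y hY)).obj GY) T G p) :
    TFOne.IsQuotOn X M (VecSt.subschι X Y hY '' T) ((Scheme.Modules.pushforward (VecSt.subschι X Y hY)).obj G)
      (πY ≫ (Scheme.Modules.pullbackPushforwardAdjunction (VecSt.subschι X Y hY)).unit.app GY ≫
        (Scheme.Modules.pushforward (VecSt.subschι X Y hY)).map p) := by
  haveI := isReduced_subsch hY
  haveI : IsLocallyNoetherian (VecSt.subsch X Y hY) := LocallyOfFiniteType.isLocallyNoetherian (VecSt.subschι X Y hY)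
  haveI : Coh.IsQCoh GY := hGY.2.1.1
  haveI : Coh.IsQCoh G := hG.2.1.1
  haveI := hGY.1
  haveI := hG.1
  let ι := VecSt.subschι X Y hY
  refine ⟨(Groth.L21.Mod.epi_iff_stalk_surjective _).2 fun x v => ?_, Groth.L16.CohClosedPush.isCoh_push ι hG.2.1,
    fun x => ⟨fun r hr a b hab => sub_eq_zero.1 ?_⟩, ?_⟩
  · by_cases hx : x ∈ Set.range ι
    · obtain ⟨z, rfl⟩ := hx
      obtain ⟨n, hn⟩ := (Groth.L21.Mod.epi_iff_stalk_surjective p).1 inferInstance z
        (Groth.L17.ClosedPush.c₀ ι G z v)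
      obtain ⟨g, rfl⟩ := (uStalk_bijective hY hYs hGY.2.2.1 hGY.2.2.2 z).2 n
      obtain ⟨m, rfl⟩ := (Groth.L21.Mod.epi_iff_stalk_surjective πY).1 inferInstance (ι z) g
      refine ⟨m, (Groth.L17.ClosedPush.c₀_bijective ι G z).1 ?_⟩
      rw [stalkF_map_comp, stalkF_map_comp]
      exact (c₀_push_map ι p z _).trans hn
    · exact ⟨0, @Subsingleton.elim _ (Groth.L17.ClosedPush.subsingleton_stalk_push ι G hx) _ _⟩
  · by_cases hx : x ∈ Set.range ι
    · obtain ⟨z, rfl⟩ := hx
      let P := (Scheme.Modules.pushforward ι).obj G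
      have h0 : (r • (show P.presheaf.stalk (ι z) from a - b) : P.presheaf.stalk (ι z)) = 0 :=
        (smul_sub r a b).trans (sub_eq_zero.2 hab)
      refine (Groth.L17.ClosedPush.c₀_bijective ι G z).1 (Eq.trans ?_ (map_zero _).symm)
      refine stalk_eq_zero G hG.2.2.1 z _ fun ζ hζ hsp => ?_
      have h1 := congrArg (fun t => P.presheaf.stalkSpecializes (hsp.map ι.continuous) t) h0
      simp only [map_zero] at h1
      rw [stalkSpecializes_smul] at h1
      letI := (isField_stalk (subschι_mem_genericPoints hY hYs hζ)).toField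
      have h2 := (smul_eq_zero.1 h1).resolve_left
        (stalkSpecializes_ne_zero (subschι_mem_genericPoints hY hYs hζ) (hsp.map ι.continuous) hr)
      exact (c₀_specializes ι G hsp _ _).symm.trans ((congrArg _ h2).trans (map_zero _))
    · exact @Subsingleton.elim _ (Groth.L17.ClosedPush.subsingleton_stalk_push ι G hx) _ _
  · ext x
    constructor
    · intro hx
      by_cases hr : x ∈ Set.range ι
      · obtain ⟨z, rfl⟩ := hr
        refine ⟨z, hG.2.2.2 ▸ fun hsub => hx ?_, rfl⟩
        exact @Function.Injective.subsingleton _ _ _ (Groth.L17.ClosedPush.c₀_bijective ι G z).1 hsub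
      · exact absurd (Groth.L17.ClosedPush.subsingleton_stalk_push ι G hr) hx
    · rintro ⟨z, hz, rfl⟩ hsub
      exact (hG.2.2.2.symm ▸ hz : z ∈ CohB1.support G)
        (@Function.Surjective.subsingleton _ _ _ hsub (Groth.L17.ClosedPush.c₀_bijective ι G z).2)

variable (k : Type u) [Field k] [X.Over (Spec (CommRingCat.of k))] [IsProper (X ↘ Spec (CommRingCat.of k))]
  {E : X.Modules} {r : ℕ}

omit [IsLocallyNoetherian X] in
/-- The quotient on a subcurve of a semistable module, of invariant zero, is semistable on the subcurve. -/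
theorem isSemistable_subsch (hE : FlatMod.IsFinLocFreeOfRank r E)
    (hpure : ∀ C ∈ irreducibleComponents (X : Type u), topologicalKrullDim C = 1)
    (hM : TFOne.IsTF1 X M) (hGY : TFOne.IsQuotOn X M Y GY πY) (hYs : VecSt.IsSubcurve X Y)
    (hnn : ∀ (T : Set X), IsClosed T → VecSt.IsSubcurve X T → ∀ (G : X.Modules) (π : M ⟶ G),
      TFOne.IsQuotOn X M T G π → 0 ≤ beta k E G)
    (hE' : FlatMod.IsFinLocFreeOfRank r ((Scheme.Modules.pullback (VecSt.subschι X Y hY)).obj E)) :
    TFOne.IsSemistable (VecSt.subsch X Y hY) k (VecSt.subschι X Y hY ≫ (X ↘ Spec (CommRingCat.of k)))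
      ((Scheme.Modules.pullback (VecSt.subschι X Y hY)).obj GY)
      ((Scheme.Modules.pullback (VecSt.subschι X Y hY)).obj E) r := by
  haveI := Groth.L21.RR.isNoetherian_of_proper (X := X) k
  let ι := VecSt.subschι X Y hY
  have hN := isTF1_subsch hY hM hGY hYs
  refine ⟨hN, fun T hT hTs _ G p hG => ?_⟩
  haveI := isReduced_subsch hY
  letI : (VecSt.subsch X Y hY).Over (Spec (CommRingCat.of k)) := ⟨ι ≫ (X ↘ Spec (CommRingCat.of k))⟩
  haveI : IsProper ((VecSt.subsch X Y hY) ↘ Spec (CommRingCat.of k)) :=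
    inferInstanceAs (IsProper (ι ≫ (X ↘ Spec (CommRingCat.of k))))
  have h1 := rBeta_eq (k := k) hE' (irreducibleComponents_subsch hY hYs hpure) hN hT hG
  refine le_of_le_of_eq ?_ h1.symm
  have hF : IsFullSet (ι '' T) := by
    rintro _ ⟨z, hz, rfl⟩
    obtain ⟨ζ, hζ, hζT, hζz⟩ := isFullSet_of_isSubcurve hTs z hz
    exact ⟨ι ζ, subschι_mem_genericPoints hY hYs hζ, ⟨ζ, hζT, rfl⟩, hζz.map ι.continuous⟩
  have hTc : IsClosed (ι '' T) := ι.isClosedEmbedding.isClosedMap T hT
  obtain ⟨ζ, -, hζT⟩ := Groth.L15.TFCurve.IsSubcurve.exists_genericPoint hTs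
  have h2 := hnn (ι '' T) hTc (hF.isSubcurve hTc ⟨_, ζ, hζT, rfl⟩) _ _ (isQuotOn_push hY hM hGY hYs hG)
  haveI : X.IsSeparated := ⟨by
    rw [← terminal.comp_from (X ↘ Spec (CommRingCat.of k))]
    infer_instance⟩
  have h3 : beta k E ((Scheme.Modules.pushforward ι).obj G) = beta k ((Scheme.Modules.pullback ι).obj E) G :=
    Groth.L22.CurveDeg.euler_tensor_push k ι rfl (Groth.L22.CurveDeg.isFinLocFree_of_rank hE) G hG.2.1.1
  exact h2.trans h3.le

end Groth.L15.TFCurve
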