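import Groth.Prelude.Def_Coh
import Mathlib.AlgebraicGeometry.Geometrically.Integral
import Mathlib.AlgebraicGeometry.FunctionField
import Mathlib.AlgebraicGeometry.Pullbacks
import Mathlib.RingTheory.AdjoinRoot
import Mathlib.RingTheory.Polynomial.ScaleRoots
import Mathlib.RingTheory.TensorProduct.Free

/-!
# The base field is algebraically closed in the function field of a geometrically integral scheme
-/

set_option autoImplicit false
set_option linter.style.haveILetI false
set_option backward.isDefEq.respectTransparency false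
set_option backward.isDefEq.respectTransparency.types false

universe u

open CategoryTheory CategoryTheory.Limits AlgebraicGeometry TopologicalSpace Polynomial TensorProduct

noncomputable section

namespace Groth.L15.TFCurve

/-- If `A ⊗ k[X]/(p)` is a domain and `p` has a root in the fraction field of `A`, then `p` is linear. -/
theorem natDegree_eq_one {k A K : Type u} [Field k] [CommRing A] [Algebra k A] [IsDomain A] [Field K] (j : A →+* K)
    (hj : Function.Injective j) (p : k[X]) (hp : p.Monic) (h1 : 1 ≤ p.natDegree) [IsDomain (A ⊗[k] AdjoinRoot p)]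
    (a b : A) (hb : b ≠ 0) (hroot : eval₂ (j.comp (algebraMap k A)) (j a / j b) p = 0) : p.natDegree = 1 := by
  by_contra hne
  let pA : A[X] := p.map (algebraMap k A)
  have hpA : pA.Monic := hp.map _
  have hdeg : pA.natDegree = p.natDegree := hp.natDegree_map _
  let R : A[X] := pA.scaleRoots b
  have hR : R.IsRoot a := by
    refine hj ?_
    rw [map_zero, ← eval₂_at_apply]
    refine scaleRoots_eval₂_eq_zero_of_eval₂_div_eq_zero hj ?_ (mem_nonZeroDivisors_of_ne_zero hb)
    rw [eval₂_map]
    exact hroot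
  obtain ⟨Q, hQ⟩ := dvd_iff_isRoot.2 hR
  let γ : A ⊗[k] AdjoinRoot p := 1 ⊗ₜ AdjoinRoot.root p
  have hγ : aeval γ pA = 0 := by
    rw [aeval_map_algebraMap]
    show aeval (Algebra.TensorProduct.includeRight (AdjoinRoot.root p) : A ⊗[k] AdjoinRoot p) p = 0
    rw [aeval_algHom_apply, AdjoinRoot.aeval_eq, AdjoinRoot.mk_self, map_zero]
  -- polynomials of small degree do not vanish at `γ`
  have key : ∀ S : A[X], S.natDegree < p.natDegree → aeval γ S = 0 → S = 0 := by
    intro S hS hS0
    have hr : aeval (AdjoinRoot.root pA) p = 0 := by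
      rw [← aeval_map_algebraMap A, AdjoinRoot.aeval_eq, AdjoinRoot.mk_self]
    let g : AdjoinRoot p →ₐ[k] AdjoinRoot pA := AdjoinRoot.liftAlgHom p (Algebra.ofId k _) (AdjoinRoot.root pA) hr
    let ψ : A ⊗[k] AdjoinRoot p →ₐ[A] AdjoinRoot pA :=
      Algebra.TensorProduct.lift (Algebra.ofId A _) g fun _ _ => Commute.all _ _
    have hψ : ψ γ = AdjoinRoot.root pA := by simp [ψ, γ, g]
    have h := congrArg ψ hS0
    rw [map_zero, ← aeval_algHom_apply, hψ, AdjoinRoot.aeval_eq, AdjoinRoot.mk_eq_zero] at h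
    by_contra hne
    exact absurd (natDegree_le_of_dvd h hne) (by rw [hdeg]; omega)
  have hev : aeval (b • γ) R = 0 := by
    rw [Algebra.smul_def]
    exact scaleRoots_aeval_eq_zero hγ
  rw [hQ, map_mul] at hev
  have hRm : R.Monic := (monic_scaleRoots_iff b).2 hpA
  have hQm : Q.Monic := (monic_X_sub_C a).of_mul_monic_left (hQ ▸ hRm)
  have hQd : Q.natDegree + 1 = p.natDegree := by
    have h := congrArg natDegree hQ
    rw [natDegree_scaleRoots, hdeg, (monic_X_sub_C a).natDegree_mul hQm, natDegree_X_sub_C] at h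
    omega
  have hcomp : ∀ S : A[X], aeval (b • γ) S = aeval γ (S.comp (C b * X)) := fun S => by
    rw [aeval_comp, map_mul, aeval_C, aeval_X, ← Algebra.smul_def]
  rcases mul_eq_zero.1 hev with h | h <;> rw [hcomp] at h
  · have h2 := key _ (lt_of_le_of_lt (natDegree_comp_le) (by
      rw [natDegree_X_sub_C, natDegree_C_mul_X b hb]; omega)) h
    have h3 := congrArg (fun S : A[X] => S.coeff 1) h2
    simp only [comp_C_mul_X_coeff, coeff_sub, coeff_X_one, coeff_C_ne_zero one_ne_zero, sub_zero, pow_one, one_mul,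
      coeff_zero] at h3
    exact hb h3
  · have h2 := key _ (lt_of_le_of_lt (natDegree_comp_le) (by rw [natDegree_C_mul_X b hb]; omega)) h
    have h3 := congrArg (fun S : A[X] => S.coeff Q.natDegree) h2
    simp only [comp_C_mul_X_coeff, hQm.coeff_natDegree, one_mul, coeff_zero] at h3
    exact pow_ne_zero _ hb h3

/-- A root of an irreducible polynomial over `k` in the function field of a geometrically integral
`k`-scheme is in `k`. -/
theorem natDegree_eq_one_of_root {k : Type u} [Field k] {C : Scheme.{u}} (f : C ⟶ Spec (CommRingCat.of k))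
    [GeometricallyIntegral f] [IsIntegral C] (c : C.functionField) (p : k[X]) (hp : p.Monic) (hirr : Irreducible p)
    (hroot : eval₂ ((C.presheaf.germ ⊤ (genericPoint C) trivial).hom.comp (Coh.toGlobal f)) c p = 0) :
    p.natDegree = 1 := by
  obtain ⟨U, hU, hξU, -⟩ := exists_isAffineOpen_mem_and_subset (x := genericPoint C) (U := ⊤) trivial
  haveI : Nonempty U := ⟨⟨_, hξU⟩⟩
  let ρ : CommRingCat.of k ⟶ Γ(C, U) :=
    CommRingCat.ofHom ((C.presheaf.map (homOfLE (le_top : U ≤ ⊤)).op).hom.comp (Coh.toGlobal f))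
  letI : Algebra k Γ(C, U) := ρ.hom.toAlgebra
  have hρ : hU.fromSpec ≫ f = Spec.map ρ := by
    rw [← IsAffineOpen.SpecMap_appLE_fromSpec f (isAffineOpen_top _) hU le_top, IsAffineOpen.fromSpec_top,
      Scheme.isoSpec_Spec_inv, ← Spec.map_comp]
    rfl
  haveI := functionField_isFractionRing_of_isAffineOpen C U hU
  obtain ⟨a, b, hb, rfl⟩ := IsFractionRing.div_surjective Γ(C, U) c
  haveI : Fact (Irreducible p) := ⟨hirr⟩
  haveI : IsDomain (Γ(C, U) ⊗[k] AdjoinRoot p) := by
    let y : Spec (CommRingCat.of (AdjoinRoot p)) ⟶ Spec (CommRingCat.of k) :=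
      Spec.map (CommRingCat.ofHom (algebraMap k (AdjoinRoot p)))
    haveI : IsIntegral (pullback f y) :=
      GeometricallyIntegral.geometrically_isIntegral y (pullback.fst f y) (pullback.snd f y) (IsPullback.of_hasPullback f y)
    haveI : Nontrivial (Γ(C, U) ⊗[k] AdjoinRoot p) :=
      (Algebra.TensorProduct.includeLeft_injective (S := k) (algebraMap k (AdjoinRoot p)).injective).nontrivial
    let e : Spec (CommRingCat.of (Γ(C, U) ⊗[k] AdjoinRoot p)) ≅ pullback (hU.fromSpec ≫ f) y :=
      (pullbackSpecIso k Γ(C, U) (AdjoinRoot p)).symm ≪≫ pullback.congrHom (by rw [hρ]; rfl) rfl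
    haveI : IsOpenImmersion (pullback.map (hU.fromSpec ≫ f) y f y hU.fromSpec (𝟙 _) (𝟙 _) (by simp) (by simp)) :=
      inferInstance
    haveI : Nonempty ↥(Spec (CommRingCat.of (Γ(C, U) ⊗[k] AdjoinRoot p))) :=
      inferInstanceAs (Nonempty (PrimeSpectrum (Γ(C, U) ⊗[k] AdjoinRoot p)))
    haveI : IsIntegral (Spec (CommRingCat.of (Γ(C, U) ⊗[k] AdjoinRoot p))) :=
      isIntegral_of_isOpenImmersion (e.hom ≫ pullback.map (hU.fromSpec ≫ f) y f y hU.fromSpec (𝟙 _) (𝟙 _) (by simp) (by simp))
    exact (affine_isIntegral_iff (CommRingCat.of (Γ(C, U) ⊗[k] AdjoinRoot p))).1 inferInstance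
  refine natDegree_eq_one (algebraMap Γ(C, U) C.functionField) (IsFractionRing.injective _ _) p hp
    hirr.natDegree_pos a b (nonZeroDivisors.ne_zero hb) ?_
  have hcomp : (algebraMap Γ(C, U) C.functionField).comp (algebraMap k Γ(C, U)) =
      (C.presheaf.germ ⊤ (genericPoint C) trivial).hom.comp (Coh.toGlobal f) :=
    RingHom.ext fun r => TopCat.Presheaf.germ_res_apply C.presheaf (homOfLE le_top) _ _ _
  rw [hcomp]
  exact hroot

end Groth.L15.TFCurve
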