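import Groth.Agent.L15.TFCurve.Push
import Groth.Agent.L15.TFCurve.AlgClosed
import Groth.Agent.L16.HomSh.Coherent
import Groth.Agent.L16.CohSupport
import Groth.Agent.L21.RR.Finite
import Mathlib.RingTheory.IntegralClosure.Algebra.Basic
import Mathlib.RingTheory.Adjoin.Field
import Mathlib.LinearAlgebra.Lagrange
import Mathlib.FieldTheory.Minpoly.Field
import Mathlib.CategoryTheory.Linear.Basic

/-!
# Endomorphisms of torsion-free rank one modules on curves
-/

set_option autoImplicit false
set_option linter.style.haveILetI false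
set_option backward.isDefEq.respectTransparency false
set_option backward.isDefEq.respectTransparency.types false

universe u

open CategoryTheory CategoryTheory.Limits AlgebraicGeometry TopologicalSpace Opposite Polynomial

noncomputable section

namespace Groth.L15.TFCurve

open Groth.L21.Mod (stalkF)

variable {X : Scheme.{u}} {k : Type u} [Field k] [X.Over (Spec (CommRingCat.of k))]

/-- Endomorphisms of a coherent module on a proper scheme form a finite-dimensional space. -/
theorem finite_End [IsProper (X ↘ Spec (CommRingCat.of k))] {M : X.Modules} (hM : Coh.IsCoh M) :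
    Module.Finite k (M ⟶ M) := by
  haveI : IsLocallyNoetherian X := LocallyOfFiniteType.isLocallyNoetherian (X ↘ Spec (CommRingCat.of k))
  haveI : Coh.IsQCoh M := hM.1
  let H := Groth.L16.HomSh.homMod M M
  haveI : Module.Finite k (Coh.HH X H 0) :=
    Groth.L16.ProperFinite.finite_HH k (Groth.L16.HomSh.isCoh_homMod hM hM) 0
  let L : (M ⟶ M) →ₗ[k] Coh.HH X H 0 :=
    { toFun := fun φ => (Groth.L21.RR.e0 H).symm (Groth.L16.HomSh.globalEquiv M M φ)
      map_add' := fun a b => by rw [map_add, map_add]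
      map_smul' := fun c a => (Groth.L21.RR.e0 H).injective (by
        rw [RingHom.id_apply, Groth.L21.RR.e0_smul, AddEquiv.apply_symm_apply, AddEquiv.apply_symm_apply]
        refine Groth.L16.HomSh.sec_ext fun W h x => ?_
        exact KLin.smul_app_apply c a W x) }
  exact Module.Finite.of_injective L
    ((Groth.L21.RR.e0 H).symm.injective.comp (Groth.L16.HomSh.globalEquiv M M).injective)

section Scalar

variable [IsReduced X]

/-- The scalar by which an endomorphism acts at a generic point. -/
def chi {M : X.Modules} (hM : TFOne.IsTF1 X M) {η : X} (hη : η ∈ genericPoints X) :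
    CategoryTheory.End M →+* X.presheaf.stalk η where
  toFun φ := (exists_scalar hM hη φ).choose
  map_one' := scalar_unique hM hη fun m => by
    rw [one_smul]
    exact ((exists_scalar hM hη (𝟙 M)).choose_spec m).symm.trans (stalkF_map_id η m)
  map_mul' f g := scalar_unique hM hη fun m => by
    refine ((exists_scalar hM hη (g ≫ f)).choose_spec m).symm.trans ?_
    rw [stalkF_map_comp, (exists_scalar hM hη g).choose_spec m, stalkF_map_smul,
      (exists_scalar hM hη f).choose_spec m, smul_smul, mul_comm]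
  map_zero' := scalar_unique hM hη fun m => by
    rw [zero_smul]
    exact ((exists_scalar hM hη (0 : M ⟶ M)).choose_spec m).symm.trans (stalkF_map_zero η m)
  map_add' f g := scalar_unique hM hη fun m => by
    refine ((exists_scalar hM hη (f + g : M ⟶ M)).choose_spec m).symm.trans ?_
    rw [stalkF_map_add, (exists_scalar hM hη f).choose_spec m, (exists_scalar hM hη g).choose_spec m]
    exact (add_smul (M := M.presheaf.stalk η) _ _ _).symm

theorem chi_spec {M : X.Modules} (hM : TFOne.IsTF1 X M) {η : X} (hη : η ∈ genericPoints X) (φ : M ⟶ M)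
    (m : M.presheaf.stalk η) : (stalkF X η).map φ m = (chi hM hη φ • m : M.presheaf.stalk η) :=
  (exists_scalar hM hη φ).choose_spec m

theorem chi_algebraMap {M : X.Modules} (hM : TFOne.IsTF1 X M) {η : X} (hη : η ∈ genericPoints X) :
    (chi hM hη).comp (algebraMap k (CategoryTheory.End M)) = genK k η := by
  refine RingHom.ext fun c => scalar_unique hM hη fun m => ?_
  rw [RingHom.comp_apply, Algebra.algebraMap_eq_smul_one, End.one_def]
  rw [← chi_spec hM hη (c • 𝟙 M) m, KLin.smul_id, stalkF_map_smulMod]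

theorem chi_ext [IsLocallyNoetherian X] {M : X.Modules} (hM : TFOne.IsTF1 X M) {φ ψ : M ⟶ M}
    (h : ∀ η (hη : η ∈ genericPoints X), chi hM hη φ = chi hM hη ψ) : φ = ψ := by
  haveI : Coh.IsQCoh M := hM.1.1
  exact hom_ext hM.2.1 fun η hη m => by rw [chi_spec hM hη, chi_spec hM hη, h η hη]

omit [IsReduced X] in
theorem genK_stalkMap {C : Scheme.{u}} (ι : C ⟶ X) (ξ : C) (c : k) :
    (ι.stalkMap ξ).hom (genK k (ι ξ) c) =
      C.presheaf.germ ⊤ ξ trivial (Coh.toGlobal (ι ≫ (X ↘ Spec (CommRingCat.of k))) c) := by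
  exact Scheme.Hom.germ_stalkMap_apply ι ⊤ ξ trivial _

/-- On a curve with geometrically integral components the base field is algebraically closed in the
field at each generic point. -/
theorem natDegree_eq_one_of_root_stalk
    (hgi : ∀ (C : Set X) (hC : C ∈ irreducibleComponents (X : Type u)),
      GeometricallyIntegral (VecSt.subschι X C (isClosed_of_mem_irreducibleComponents C hC) ≫ (X ↘ Spec (CommRingCat.of k))))
    {η : X} (hη : η ∈ genericPoints X) (c : X.presheaf.stalk η) (p : k[X]) (hp : p.Monic) (hirr : Irreducible p)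
    (hroot : eval₂ (genK k η) c p = 0) : p.natDegree = 1 := by
  let hCc : IsClosed (closure ({η} : Set X)) := isClosed_closure
  let ι := VecSt.subschι X (closure {η}) hCc
  haveI : GeometricallyIntegral (ι ≫ (X ↘ Spec (CommRingCat.of k))) := hgi _ hη
  haveI : IsIntegral (VecSt.subsch X (closure {η}) hCc) :=
    GeometricallyIntegral.isIntegral_of_subsingleton (ι ≫ (X ↘ Spec (CommRingCat.of k)))
  have hgen : IsGenericPoint (ι (genericPoint (VecSt.subsch X (closure {η}) hCc))) (closure ({η} : Set X)) := by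
    have h := (genericPoint_spec (VecSt.subsch X (closure {η}) hCc)).image ι.continuous
    rwa [Set.image_univ, range_subschι, closure_closure] at h
  have he : η = ι (genericPoint (VecSt.subsch X (closure {η}) hCc)) := (hgen.eq isGenericPoint_closure).symm
  obtain ⟨c', hc'⟩ : ∃ c' : X.presheaf.stalk (ι (genericPoint (VecSt.subsch X (closure {η}) hCc))),
      eval₂ (genK k _) c' p = 0 := by rw [← he]; exact ⟨c, hroot⟩
  refine natDegree_eq_one_of_root (ι ≫ (X ↘ Spec (CommRingCat.of k)))
    ((ι.stalkMap (genericPoint (VecSt.subsch X (closure {η}) hCc))).hom c') p hp hirr ?_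
  have h := congrArg (ι.stalkMap (genericPoint (VecSt.subsch X (closure {η}) hCc))).hom hc'
  rw [map_zero, hom_eval₂] at h
  rw [← h]
  congr 1
  exact RingHom.ext fun r => (genK_stalkMap ι _ r).symm

theorem exists_eq_genK
    (hgi : ∀ (C : Set X) (hC : C ∈ irreducibleComponents (X : Type u)),
      GeometricallyIntegral (VecSt.subschι X C (isClosed_of_mem_irreducibleComponents C hC) ≫ (X ↘ Spec (CommRingCat.of k))))
    {η : X} (hη : η ∈ genericPoints X) (c : X.presheaf.stalk η) (μ : k[X]) (hμ : μ ≠ 0)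
    (hc : eval₂ (genK k η) c μ = 0) : ∃ a : k, genK k η a = c ∧ μ.IsRoot a := by
  letI := (isField_stalk hη).toField
  letI : Algebra k (X.presheaf.stalk η) := (genK k η).toAlgebra
  have hint : _root_.IsIntegral k c := IsAlgebraic.isIntegral ⟨μ, hμ, hc⟩
  have h1 := natDegree_eq_one_of_root_stalk hgi hη c (minpoly k c) (minpoly.monic hint) (minpoly.irreducible hint)
    (minpoly.aeval k c)
  obtain ⟨a, ha⟩ := (minpoly.degree_eq_one_iff (A := k) (x := c)).1 (by
    rw [degree_eq_natDegree (minpoly.ne_zero hint), h1]; rfl)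
  refine ⟨a, ha, genK_injective η ?_⟩
  rw [map_zero, ← eval₂_at_apply]
  exact (congrArg (fun z => eval₂ (genK k η) z μ) ha).trans hc

theorem isTorsionFree_sub {F E : X.Modules} (ι : F ⟶ E) [Mono ι] (htf : TorSh.IsTorsionFree E) :
    TorSh.IsTorsionFree F := fun x =>
  haveI := htf x
  Function.Injective.moduleIsTorsionFree
    (fun m : F.presheaf.stalk x => (show E.presheaf.stalk x from (stalkF X x).map ι m))
    ((Groth.L21.Mod.mono_iff_stalk_injective ι).1 inferInstance x) fun r m => stalkF_map_smul ι x r m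

/-- The image of an idempotent endomorphism, as a quotient on the components where it is the identity. -/
theorem exists_summand [IsLocallyNoetherian X] {I : X.Modules} (hI : TFOne.IsTF1 X I) (e : I ⟶ I) (he : e ≫ e = e)
    {η η' : X} (hη : η ∈ genericPoints X) (hη' : η' ∈ genericPoints X) (h1 : chi hI hη e = 1)
    (h0 : chi hI hη' e = 0) :
    ∃ (Y : Set X) (_ : IsClosed Y) (G : X.Modules) (π : I ⟶ G) (ι : G ⟶ I),
      VecSt.IsSubcurve X Y ∧ Y ≠ Set.univ ∧ TFOne.IsQuotOn X I Y G π ∧ π ≫ ι = e ∧ ι ≫ π = 𝟙 G := by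
  haveI : Coh.IsQCoh I := hI.1.1
  let G := kernel (𝟙 I - e)
  let ι : G ⟶ I := kernel.ι (𝟙 I - e)
  have hfix : ι ≫ e = ι := by
    have h : ι ≫ (𝟙 I - e) = 0 := kernel.condition _
    rw [Preadditive.comp_sub, Category.comp_id, sub_eq_zero] at h
    exact h.symm
  let π : I ⟶ G := kernel.lift _ e (by rw [Preadditive.comp_sub, Category.comp_id, he, sub_self])
  have hπι : π ≫ ι = e := kernel.lift_ι _ _ _
  have hιπ : ι ≫ π = 𝟙 G := by rw [← cancel_mono ι, Category.assoc, hπι, hfix, Category.id_comp]
  have hG : Coh.IsCoh G := Groth.L16.CohSupport.isCoh_kernel hI.1 _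
  have htf : TorSh.IsTorsionFree G := isTorsionFree_sub ι hI.2.1
  haveI : Coh.IsQCoh G := hG.1
  have hcl := Groth.L16.CohSupport.isClosed_support G hG.2
  have hmem : η ∈ CohB1.support G := fun hsub => by
    obtain ⟨m, hm⟩ := exists_ne_zero hI hη
    refine hm (Eq.trans ?_ (map_zero ((stalkF X η).map ι).hom))
    rw [← @Subsingleton.elim _ hsub ((stalkF X η).map π m) 0]
    exact (((stalkF_map_comp π ι η m).symm.trans (by rw [hπι, chi_spec hI hη, h1, one_smul]))).symm
  have hnot : η' ∉ CohB1.support G := fun hmem => hmem ⟨fun a b => by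
    suffices h : ∀ z : G.presheaf.stalk η', z = 0 from (h a).trans (h b).symm
    intro z
    refine (Groth.L21.Mod.mono_iff_stalk_injective ι).1 inferInstance η' (Eq.trans ?_ (map_zero _).symm)
    calc (stalkF X η').map ι z = (stalkF X η').map (ι ≫ e) z := by rw [hfix]
      _ = _ := by rw [stalkF_map_comp, chi_spec hI hη', h0, zero_smul]⟩
  haveI : Epi π := (IsSplitEpi.mk' ⟨ι, hιπ⟩).epi
  exact ⟨CohB1.support G, hcl, G, π, ι,
    ⟨_, fun C hC => hC.1, ⟨closure {η}, closure_mem_of_mem hcl hη hmem⟩, support_eq_sUnion htf hcl⟩,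
    fun h => hnot (h ▸ Set.mem_univ η'), ⟨inferInstance, hG, htf, rfl⟩, hπι, hιπ⟩

/-- A non-scalar endomorphism gives an idempotent separating two generic points. -/
theorem exists_idempotent [IsProper (X ↘ Spec (CommRingCat.of k))] [Nonempty X]
    (hgi : ∀ (C : Set X) (hC : C ∈ irreducibleComponents (X : Type u)),
      GeometricallyIntegral (VecSt.subschι X C (isClosed_of_mem_irreducibleComponents C hC) ≫ (X ↘ Spec (CommRingCat.of k))))
    {I : X.Modules} (hI : TFOne.IsTF1 X I) (φ : I ⟶ I) (hφ : ∀ c : k, φ ≠ Formal.smulMod k I c) :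
    ∃ e : I ⟶ I, e ≫ e = e ∧ ∃ (η η' : X) (hη : η ∈ genericPoints X) (hη' : η' ∈ genericPoints X),
      chi hI hη e = 1 ∧ chi hI hη' e = 0 := by
  classical
  haveI : IsLocallyNoetherian X := LocallyOfFiniteType.isLocallyNoetherian (X ↘ Spec (CommRingCat.of k))
  haveI : Module.Finite k (CategoryTheory.End I) := finite_End (k := k) hI.1
  let φ' : CategoryTheory.End I := φ
  obtain ⟨μ, hμ, hμ0⟩ := Algebra.IsIntegral.isIntegral (R := k) φ'
  have hev : ∀ (η : X) (hη : η ∈ genericPoints X) (q : k[X]),
      chi hI hη (aeval φ' q) = eval₂ (genK k η) (chi hI hη φ') q := fun η hη q => by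
    rw [aeval_def, hom_eval₂, chi_algebraMap]
  have hval : ∀ (η : X) (hη : η ∈ genericPoints X), ∃ a : k, genK k η a = chi hI hη φ' ∧ μ.IsRoot a := fun η hη =>
    exists_eq_genK hgi hη _ μ hμ.ne_zero (by rw [← hev η hη, aeval_def, hμ0, map_zero])
  choose a ha har using hval
  obtain ⟨η₁, hη₁, -⟩ := exists_genericPoint_specializes (Classical.arbitrary X)
  obtain ⟨η₂, hη₂, hne⟩ : ∃ η₂, ∃ hη₂ : η₂ ∈ genericPoints X, a η₂ hη₂ ≠ a η₁ hη₁ := by
    by_contra! hall
    refine hφ (a η₁ hη₁) (chi_ext hI fun η hη => ?_)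
    have h1 : (Formal.smulMod k I (a η₁ hη₁) : CategoryTheory.End I) = algebraMap k (CategoryTheory.End I) (a η₁ hη₁) :=
      ((Algebra.algebraMap_eq_smul_one (R := k) (A := CategoryTheory.End I) _).trans (KLin.smul_id I _)).symm
    refine Eq.trans ?_ (congrArg (chi hI hη) h1).symm
    rw [← RingHom.comp_apply, chi_algebraMap, ← hall η hη]
    exact (ha η hη).symm
  let q := Lagrange.basis μ.roots.toFinset id (a η₁ hη₁)
  have hs : ∀ η hη, a η hη ∈ μ.roots.toFinset := fun η hη =>
    Multiset.mem_toFinset.2 ((mem_roots hμ.ne_zero).2 (har η hη))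
  have hχ : ∀ (η : X) (hη : η ∈ genericPoints X), chi hI hη (aeval φ' q) = genK k η (q.eval (a η hη)) := fun η hη => by
    rw [hev, ← ha η hη, eval₂_at_apply]
  have hq1 : q.eval (a η₁ hη₁) = 1 := Lagrange.eval_basis_self (Set.injOn_id _) (hs η₁ hη₁)
  have hq0 : ∀ η hη, a η hη ≠ a η₁ hη₁ → q.eval (a η hη) = 0 := fun η hη h =>
    Lagrange.eval_basis_of_ne (v := id) (Ne.symm h) (hs η hη)
  refine ⟨aeval φ' q, chi_ext hI fun η hη => ?_, η₁, η₂, hη₁, hη₂, by rw [hχ, hq1, map_one],
    by rw [hχ, hq0 η₂ hη₂ hne, map_zero]⟩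
  rw [show (aeval φ' q : I ⟶ I) ≫ (aeval φ' q : I ⟶ I) = (aeval φ' q * aeval φ' q : CategoryTheory.End I) from rfl,
    map_mul, hχ]
  by_cases h : a η hη = a η₁ hη₁
  · rw [h, hq1, map_one, one_mul]
  · rw [hq0 η hη h, map_zero, zero_mul]

end Scalar

end Groth.L15.TFCurve
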