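import Groth.Agent.L15.TFCurve.Fibre
import Groth.Agent.L22.CurveDeg.ZeroDim

/-!
# `β` of quotients of an elementary modification
-/

set_option autoImplicit false
set_option linter.style.haveILetI false
set_option backward.isDefEq.respectTransparency false
set_option backward.isDefEq.respectTransparency.types false

universe u

open CategoryTheory CategoryTheory.Limits AlgebraicGeometry TopologicalSpace Opposite

noncomputable section

namespace Groth.L15.TFCurve

open Groth.L21.Mod (stalkF)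
open Groth.L21.RR (SuppClosed)

variable {X : Scheme.{u}}

theorem mem_sUnion_components {P : Set X → Prop} {η : X} (hη : η ∈ genericPoints X) :
    η ∈ ⋃₀ {C | C ∈ irreducibleComponents (X : Type u) ∧ P C} ↔ P (closure {η}) := by
  refine ⟨fun ⟨C, ⟨hC, hP⟩, hηC⟩ => ?_, fun h => ⟨closure {η}, ⟨hη, h⟩, subset_closure rfl⟩⟩
  obtain ⟨η₀, hη₀, hC'⟩ := exists_genericPoint_of_component hC
  have : η₀ = η := eq_of_specializes hη (specializes_iff_mem_closure.2 (hC'.ge hηC))
  subst this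
  exact hC' ▸ hP

theorem mem_inter_components {Y Z : Set X} (hY : IsClosed Y) (hZ : IsClosed Z) {η : X} (hη : η ∈ genericPoints X) :
    η ∈ ⋃₀ {C | C ∈ irreducibleComponents (X : Type u) ∧ C ⊆ Y ∩ Z} ↔ η ∈ Y ∧ η ∈ Z := by
  rw [mem_sUnion_components (P := fun C => C ⊆ Y ∩ Z) hη, (hY.inter hZ).closure_subset_iff, Set.singleton_subset_iff]
  rfl

theorem mem_diff_components {Y Z : Set X} (hY : IsClosed Y) (hZ : IsClosed Z) {η : X} (hη : η ∈ genericPoints X) :
    η ∈ ⋃₀ {C | C ∈ irreducibleComponents (X : Type u) ∧ C ⊆ Z ∧ ¬ C ⊆ Y} ↔ η ∉ Y ∧ η ∈ Z := by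
  rw [mem_sUnion_components (P := fun C => C ⊆ Z ∧ ¬ C ⊆ Y) hη, hY.closure_subset_iff, hZ.closure_subset_iff,
    Set.singleton_subset_iff, Set.singleton_subset_iff, and_comm]

theorem mem_compl_components {Y : Set X} (hY : IsClosed Y) {η : X} (hη : η ∈ genericPoints X) :
    η ∈ ⋃₀ {C | C ∈ irreducibleComponents (X : Type u) ∧ ¬ C ⊆ Y} ↔ η ∉ Y := by
  rw [mem_sUnion_components (P := fun C => ¬ C ⊆ Y) hη, hY.closure_subset_iff, Set.singleton_subset_iff]

theorem quot_isZero [IsReduced X] {M G : X.Modules} {π : M ⟶ G} {S : Set X} (hG : TFOne.IsQuotOn X M S G π)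
    (hS : S = ∅) : IsZero G :=
  (Groth.L21.Mod.isZero_iff_support_eq_empty G).2 (hG.2.2.2.trans hS)

theorem isQuotOn_self [IsReduced X] {M : X.Modules} (hM : TFOne.IsTF1 X M) [IsLocallyNoetherian X] :
    TFOne.IsQuotOn X M Set.univ M (𝟙 M) := by
  refine ⟨inferInstance, hM.1, hM.2.1, support_eq_of_generic hM.1 hM.2.1 isClosed_univ isFullSet_univ fun η hη =>
    ⟨fun _ => trivial, fun _ h => ?_⟩⟩
  obtain ⟨m, hm⟩ := exists_ne_zero hM hη
  exact hm (@Subsingleton.elim _ h _ _)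

variable (k : Type u) [Field k] [X.Over (Spec (CommRingCat.of k))] [IsProper (X ↘ Spec (CommRingCat.of k))]

theorem isAdditive_euler : IsAdditive (X := X) (Curv2.euler k X) :=
  ⟨fun e => Groth.L03.Euler.euler_iso e, fun h h₁ h₂ h₃ => Groth.L03.Euler.euler_add h h₁ h₂ h₃⟩

variable {E : X.Modules} {r : ℕ} (hE : FlatMod.IsFinLocFreeOfRank r E)
include hE

theorem isAdditive_beta : IsAdditive (X := X) (beta k E) :=
  ⟨fun e => beta_iso k E e, fun h h₁ h₂ h₃ => beta_add k hE h h₁ h₂ h₃⟩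

variable [IsReduced X] (hpure : ∀ C ∈ irreducibleComponents (X : Type u), topologicalKrullDim C = 1)
  {M GY M' : X.Modules} {πY : M ⟶ GY} (D : Modif πY M') {Y : Set X} (hY : IsClosed Y)
  (hM : TFOne.IsTF1 X M) (hGY : TFOne.IsQuotOn X M Y GY πY)
include hpure D hY hM hGY

/-- The basic inequality with its defect. -/
theorem exists_defect {Z W V : Set X} (hZ : IsClosed Z)
    (hW : W = ⋃₀ {C | C ∈ irreducibleComponents (X : Type u) ∧ C ⊆ Y ∩ Z})
    (hV : V = ⋃₀ {C | C ∈ irreducibleComponents (X : Type u) ∧ C ⊆ Z ∧ ¬ C ⊆ Y})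
    {GZ GW GU : X.Modules} {π₁ : M' ⟶ GZ} {πW : M ⟶ GW} {πU : M ⟶ GU}
    (hGZ : TFOne.IsQuotOn X M' Z GZ π₁) (hGW : TFOne.IsQuotOn X M W GW πW)
    (hGU : TFOne.IsQuotOn X M (Y ∪ Z) GU πU) :
    ∃ (K' T : X.Modules) (π : M' ⟶ K'), TFOne.IsQuotOn X M' V K' π ∧ Coh.IsCoh T ∧ SuppClosed T ∧
      ((∀ η ∈ genericPoints X, η ∉ Y → η ∈ Z) → IsZero T) ∧
      Curv2.euler k X GZ = Curv2.euler k X GW + Curv2.euler k X K' + Curv2.euler k X T ∧
      beta k E GW + beta k E GU + beta k E T = beta k E GZ + beta k E GY := by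
  haveI := Groth.L21.RR.isNoetherian_of_proper (X := X) k
  have hVsub : {C | C ∈ irreducibleComponents (X : Type u) ∧ C ⊆ Z ∧ ¬ C ⊆ Y} ⊆ irreducibleComponents (X : Type u) :=
    fun C hC => hC.1
  have hWsub : {C | C ∈ irreducibleComponents (X : Type u) ∧ C ⊆ Y ∩ Z} ⊆ irreducibleComponents (X : Type u) :=
    fun C hC => hC.1
  obtain ⟨K', T, π, h1, h2, h3, h4, h5⟩ := D.exists_decomp hM hGY hpure (V := V) hGZ hGW hGU
    (fun η hη => by rw [hW]; exact mem_inter_components hY hZ hη) (hW ▸ isClosed_sUnion_components hWsub)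
    (hW ▸ isFullSet_sUnion hWsub) (fun η _ => Iff.rfl) (fun η hη => by rw [hV]; exact mem_diff_components hY hZ hη)
    (hV ▸ isClosed_sUnion_components hVsub) (hV ▸ isFullSet_sUnion hVsub)
  obtain ⟨a1, a2⟩ := h5 (isAdditive_beta k hE)
  exact ⟨K', T, π, h1, h2, h3, h4, (h5 (isAdditive_euler k)).1, by omega⟩

theorem beta_inequality {Z W : Set X} (hZ : IsClosed Z)
    (hW : W = ⋃₀ {C | C ∈ irreducibleComponents (X : Type u) ∧ C ⊆ Y ∩ Z})
    {GZ GW GU : X.Modules} {π₁ : M' ⟶ GZ} {πW : M ⟶ GW} {πU : M ⟶ GU}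
    (hGZ : TFOne.IsQuotOn X M' Z GZ π₁) (hGW : TFOne.IsQuotOn X M W GW πW)
    (hGU : TFOne.IsQuotOn X M (Y ∪ Z) GU πU) :
    beta k E GW + beta k E GU ≤ beta k E GZ + beta k E GY := by
  obtain ⟨K', T, π, -, hT, hs, -, -, h⟩ := exists_defect k hE hpure D hY hM hGY hZ hW rfl hGZ hGW hGU
  have := beta_nonneg_of_suppClosed k hE hT hs
  omega

/-- The inequality for a subcurve, with the two quotients of the original module produced. -/
theorem exists_inequality {Z : Set X} (hZ : IsClosed Z) (hZs : VecSt.IsSubcurve X Z) (hYs : VecSt.IsSubcurve X Y)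
    {GZ : X.Modules} {π₁ : M' ⟶ GZ} (hGZ : TFOne.IsQuotOn X M' Z GZ π₁) :
    ∃ (W : Set X) (_ : IsClosed W) (_ : W = ⋃₀ {C | C ∈ irreducibleComponents (X : Type u) ∧ C ⊆ Y ∩ Z})
      (GW GU : X.Modules) (πW : M ⟶ GW) (πU : M ⟶ GU) (_ : TFOne.IsQuotOn X M W GW πW)
      (_ : TFOne.IsQuotOn X M (Y ∪ Z) GU πU), VecSt.IsSubcurve X (Y ∪ Z) ∧
      (W.Nonempty → VecSt.IsSubcurve X W) ∧ (¬ W.Nonempty → beta k E GW = 0) ∧
      beta k E GW + beta k E GU ≤ beta k E GZ + beta k E GY := by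
  haveI := Groth.L21.RR.isNoetherian_of_proper (X := X) k
  let S := {C | C ∈ irreducibleComponents (X : Type u) ∧ C ⊆ Y ∩ Z}
  have hS : S ⊆ irreducibleComponents (X : Type u) := fun C hC => hC.1
  obtain ⟨GW, πW, hGW⟩ := exists_quot hM (isClosed_sUnion_components hS) (isFullSet_sUnion hS)
  have hUF := (isFullSet_of_isSubcurve hYs).union (isFullSet_of_isSubcurve hZs)
  obtain ⟨GU, πU, hGU⟩ := exists_quot hM (hY.union hZ) hUF
  refine ⟨⋃₀ S, isClosed_sUnion_components hS, rfl, GW, GU, πW, πU, hGW, hGU, hUF.isSubcurve (hY.union hZ) ?_,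
    fun h => (isFullSet_sUnion hS).isSubcurve (isClosed_sUnion_components hS) h,
    fun h => beta_of_isZero k hE (quot_isZero hGW (Set.not_nonempty_iff_eq_empty.1 h)),
    beta_inequality k hE hpure D hY hM hGY hZ rfl hGZ hGW hGU⟩
  obtain ⟨η, -, hη⟩ := Groth.L15.TFCurve.IsSubcurve.exists_genericPoint hYs
  exact ⟨η, Or.inl hη⟩

omit hpure hY in
theorem beta_modif : beta k E M' = beta k E M := by
  haveI := Groth.L21.RR.isNoetherian_of_proper (X := X) k
  exact D.additive_modif hM hGY (isAdditive_beta k hE)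

/-- The split criterion. -/
theorem beta_eq_iff_isIso (hr : 0 < r) {Y' : Set X} (hY' : Y' = ⋃₀ {C | C ∈ irreducibleComponents (X : Type u) ∧ ¬ C ⊆ Y})
    {G1 G2 : X.Modules} {π1 : M' ⟶ G1} {π2 : M' ⟶ G2} (hG1 : TFOne.IsQuotOn X M' Y G1 π1)
    (hG2 : TFOne.IsQuotOn X M' Y' G2 π2) :
    beta k E G1 = beta k E GY ↔ IsIso (biprod.lift π1 π2) := by
  haveI := Groth.L21.RR.isNoetherian_of_proper (X := X) k
  have hM' := D.isTF1 hM hGY
  haveI : Coh.IsQCoh M' := hM'.1.1
  have hsub : {C | C ∈ irreducibleComponents (X : Type u) ∧ ¬ C ⊆ Y} ⊆ irreducibleComponents (X : Type u) := fun C hC => hC.1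
  have hmem : ∀ η ∈ genericPoints X, η ∈ Y' ↔ η ∉ Y := fun η hη => by rw [hY']; exact mem_compl_components hY hη
  obtain ⟨e, -⟩ := quot_unique hM' hG2 (D.isQuotOn_toKer hM hGY (hY' ▸ isClosed_sUnion_components hsub)
    (hY' ▸ isFullSet_sUnion hsub) hmem)
  let l := biprod.lift π1 π2
  haveI : Mono l := by
    refine Preadditive.mono_of_kernel_zero (hom_eq_zero hM'.2.1 _ fun η hη z => ?_)
    by_cases hy : η ∈ Y
    · refine quot_injective hM' hG1 hη hy ?_
      rw [← stalkF_map_comp, show kernel.ι l ≫ π1 = 0 by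
        rw [← biprod.lift_fst π1 π2, ← Category.assoc, kernel.condition, zero_comp]]
      exact stalkF_map_zero η z
    · refine quot_injective hM' hG2 hη ((hmem η hη).2 hy) ?_
      rw [← stalkF_map_comp, show kernel.ι l ≫ π2 = 0 by
        rw [← biprod.lift_snd π1 π2, ← Category.assoc, kernel.condition, zero_comp]]
      exact stalkF_map_zero η z
  have hB : Coh.IsCoh (G1 ⊞ G2) := Groth.L16.Devissage.isCoh_biprod hG1.2.1 hG2.2.1
  have hC : Coh.IsCoh (cokernel l) := (Groth.L16.CohKernel.isCoh_kernel_cokernel hM'.1 hB l).2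
  have hs : SuppClosed (cokernel l) := fun x hx => by
    have hη := mem_genericPoints_of_not_isClosed hpure hx
    haveI := hG1.1
    haveI := hG2.1
    refine subsingleton_of_forall_eq 0 fun c => ?_
    obtain ⟨v, rfl⟩ := stalk_surjective (cokernel.π l) x c
    suffices h : ∃ m, (stalkF X x).map l m = v by
      obtain ⟨m, rfl⟩ := h
      exact stalk_comp_eq_zero (cokernel.condition l) x m
    have hdec : v = (stalkF X x).map (biprod.inl : G1 ⟶ G1 ⊞ G2) ((stalkF X x).map (biprod.fst : G1 ⊞ G2 ⟶ G1) v) +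
        (stalkF X x).map (biprod.inr : G2 ⟶ G1 ⊞ G2) ((stalkF X x).map (biprod.snd : G1 ⊞ G2 ⟶ G2) v) := by
      rw [← stalkF_map_comp, ← stalkF_map_comp, ← stalkF_map_add, biprod.total]
      exact (stalkF_map_id x v).symm
    obtain ⟨m₁, hm₁⟩ := stalk_surjective π1 x ((stalkF X x).map (biprod.fst : G1 ⊞ G2 ⟶ G1) v)
    obtain ⟨m₂, hm₂⟩ := stalk_surjective π2 x ((stalkF X x).map (biprod.snd : G1 ⊞ G2 ⟶ G2) v)
    have hl : ∀ m, (stalkF X x).map l m = (stalkF X x).map (biprod.inl : G1 ⟶ G1 ⊞ G2) ((stalkF X x).map π1 m) +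
        (stalkF X x).map (biprod.inr : G2 ⟶ G1 ⊞ G2) ((stalkF X x).map π2 m) := fun m => by
      rw [← stalkF_map_comp, ← stalkF_map_comp, ← stalkF_map_add, ← biprod.lift_eq]
    by_cases hy : x ∈ Y
    · refine ⟨m₁, ?_⟩
      rw [hl, hm₁, @Subsingleton.elim _ (subsingleton_of_notMem hG2 fun h => (hmem x hη).1 h hy)
        ((stalkF X x).map π2 m₁) ((stalkF X x).map (biprod.snd : G1 ⊞ G2 ⟶ G2) v)]
      exact hdec.symm
    · refine ⟨m₂, ?_⟩
      rw [hl, hm₂, @Subsingleton.elim _ (subsingleton_of_notMem hG1 hy)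
        ((stalkF X x).map π1 m₂) ((stalkF X x).map (biprod.fst : G1 ⊞ G2 ⟶ G1) v)]
      exact hdec.symm
  have hμ := isAdditive_beta (X := X) k hE
  have e1 := hμ.add (ShortComplex.ShortExact.mk (ShortComplex.exact_cokernel l) :
    (ShortComplex.mk l (cokernel.π l) (cokernel.condition l)).ShortExact) hM'.1 hB hC
  have e2 := hμ.add (ShortComplex.Splitting.ofHasBinaryBiproduct G1 G2).shortExact hG1.2.1 hB hG2.2.1
  have e3 := hμ.add D.shortExact hGY.2.1 D.coh (D.isCoh_ker hM hGY)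
  have e4 := hμ.iso e
  dsimp only at e1 e2 e3
  constructor
  · intro h
    have hz : IsZero (cokernel l) := isZero_of_beta_eq_zero k hE hr hC hs (by omega)
    haveI : Epi l := Preadditive.epi_of_isZero_cokernel l hz
    exact isIso_of_mono_of_epi l
  · intro h
    haveI : IsIso l := h
    have hz : IsZero (cokernel l) := IsZero.of_iso (isZero_zero _) (cokernel.ofEpi l)
    have := beta_of_isZero k hE hz
    omega

end Groth.L15.TFCurve
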