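import Groth.Agent.L15.TFCurve.SubSemi
import Groth.Agent.L29.LocFree
import Mathlib.AlgebraicGeometry.Morphisms.Proper
import Mathlib.RingTheory.DiscreteValuationRing.Basic

/-!
# Rank one modules on curves over a discrete valuation ring: common setup
-/

set_option autoImplicit false
set_option linter.style.haveILetI false
set_option backward.isDefEq.respectTransparency false
set_option backward.isDefEq.respectTransparency.types false

universe u

open CategoryTheory CategoryTheory.Limits AlgebraicGeometry TopologicalSpace Opposite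

noncomputable section

namespace Groth.L15.TFCurve

variable {R : Type u} [CommRing R] [IsDomain R] [IsDiscreteValuationRing R] {X : Scheme.{u}}
  {f : X ⟶ Spec (CommRingCat.of R)} [IsProper f] {Xs : Scheme.{u}}
  [Xs.Over (Spec (CommRingCat.of (IsLocalRing.ResidueField R)))] {i : Xs ⟶ X}
  (hsq : IsPullback i (Xs ↘ Spec (CommRingCat.of (IsLocalRing.ResidueField R))) f
    (Spec.map (CommRingCat.ofHom (IsLocalRing.residue R))))
include hsq

theorem isProper_special : IsProper (Xs ↘ Spec (CommRingCat.of (IsLocalRing.ResidueField R))) :=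
  MorphismProperty.of_isPullback hsq ‹IsProper f›

omit [IsProper f] in
theorem isClosedImmersion_special : IsClosedImmersion i :=
  MorphismProperty.of_isPullback hsq.flip (IsClosedImmersion.spec_of_surjective _ IsLocalRing.residue_surjective)

omit hsq [IsDomain R] [IsDiscreteValuationRing R] in
theorem isFinLocFreeOfRank_pullback' {A B : Scheme.{u}} (g : A ⟶ B) {n : ℕ} {E : B.Modules}
    (hE : FlatMod.IsFinLocFreeOfRank n E) : FlatMod.IsFinLocFreeOfRank n ((Scheme.Modules.pullback g).obj E) :=
  fun x => by
    obtain ⟨U, hx, ⟨j⟩⟩ := hE (g x)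
    exact ⟨g ⁻¹ᵁ U, hx, Groth.L29.LocFree.restrict_pullback g j⟩

/-- The special fibre of an elementary modification. -/
theorem nonempty_modif' {I : X.Modules} (hIc : Coh.IsCoh I) (hIf : FlatMod.IsFlatOver f I) {Y : Set Xs}
    {GY : Xs.Modules} {πY : (Scheme.Modules.pullback i).obj I ⟶ GY}
    (hGY : TFOne.IsQuotOn Xs ((Scheme.Modules.pullback i).obj I) Y GY πY) {IY : X.Modules}
    (hIY : IY = kernel ((Scheme.Modules.pullbackPushforwardAdjunction i).unit.app I ≫
      (Scheme.Modules.pushforward i).map πY)) :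
    Nonempty (Modif πY ((Scheme.Modules.pullback i).obj IY)) := by
  haveI : IsLocallyNoetherian X := LocallyOfFiniteType.isLocallyNoetherian f
  haveI := isClosedImmersion_special hsq
  haveI := isProper_special hsq
  haveI : IsLocallyNoetherian Xs :=
    LocallyOfFiniteType.isLocallyNoetherian (Xs ↘ Spec (CommRingCat.of (IsLocalRing.ResidueField R)))
  haveI := hGY.1
  obtain ⟨ϖ, hϖ⟩ := IsDiscreteValuationRing.exists_irreducible R
  exact nonempty_modif i f _ hsq hϖ hIc hIf hGY.2.1 πY hIY

omit [IsProper f] hsq in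
theorem nonneg_of_isSemistable {k : Type u} [Field k] [Xs.Over (Spec (CommRingCat.of k))]
    [IsProper (Xs ↘ Spec (CommRingCat.of k))] [IsReduced Xs]
    (hpure : ∀ C ∈ irreducibleComponents (Xs : Type u), topologicalKrullDim C = 1) {E M : Xs.Modules} {r : ℕ}
    (hE : FlatMod.IsFinLocFreeOfRank r E)
    (hss : TFOne.IsSemistable Xs k (Xs ↘ Spec (CommRingCat.of k)) M E r) (hM0 : beta k E M = 0)
    {T : Set Xs} (hT : IsClosed T) (hTs : VecSt.IsSubcurve Xs T) {G : Xs.Modules} {π : M ⟶ G}
    (hG : TFOne.IsQuotOn Xs M T G π) : 0 ≤ beta k E G := by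
  haveI := Groth.L21.RR.isNoetherian_of_proper (X := Xs) k
  by_cases h : T = Set.univ
  · subst h
    obtain ⟨e, -⟩ := quot_unique hss.1 hG (isQuotOn_self hss.1)
    rw [beta_iso k E e, hM0]
  · rw [← rBeta_eq k hE hpure hss.1 hT hG]
    exact hss.2 T hT hTs h G π hG

end Groth.L15.TFCurve
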