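import Groth.Agent.L15.TFCurve.Curve
import Groth.Agent.L17.ClosedPush
import Groth.Agent.L18.KerReduced
import Mathlib.AlgebraicGeometry.Morphisms.ClosedImmersion
import Mathlib.CategoryTheory.Adjunction.FullyFaithful

/-!
# Direct images of torsion-free modules from subcurves
-/

set_option autoImplicit false
set_option linter.style.haveILetI false
set_option backward.isDefEq.respectTransparency false
set_option backward.isDefEq.respectTransparency.types false

universe u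

open CategoryTheory CategoryTheory.Limits AlgebraicGeometry TopologicalSpace Opposite

noncomputable section

namespace Groth.L15.TFCurve

open Groth.L21.Mod (stalkF)

variable {X : Scheme.{u}}

section Subcurve

variable {Y : Set X} (hY : IsClosed Y)

theorem range_subschι : Set.range (VecSt.subschι X Y hY) = Y := by
  rw [Scheme.IdealSheafData.range_subschemeι, Scheme.IdealSheafData.coe_support_vanishingIdeal]
  rfl

theorem isReduced_subsch : IsReduced (VecSt.subsch X Y hY) :=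
  Groth.L18.isReduced_vanishingIdeal_subscheme (⟨Y, hY⟩ : Closeds X)

theorem subschι_mem_genericPoints (hYs : VecSt.IsSubcurve X Y) {ζ : VecSt.subsch X Y hY}
    (hζ : ζ ∈ genericPoints (VecSt.subsch X Y hY)) : VecSt.subschι X Y hY ζ ∈ genericPoints X := by
  obtain ⟨S, hS, -, hYS⟩ := hYs
  have h1 : VecSt.subschι X Y hY ζ ∈ ⋃₀ S := hYS ▸ (range_subschι hY).le ⟨ζ, rfl⟩
  obtain ⟨C, hC, hζC⟩ := h1
  obtain ⟨η, hη, hηC⟩ := exists_genericPoint_of_component (hS hC)
  have hηY : η ∈ Y := hYS ▸ ⟨C, hC, hηC ▸ subset_closure rfl⟩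
  obtain ⟨w, rfl⟩ : η ∈ Set.range (VecSt.subschι X Y hY) := (range_subschι hY).ge hηY
  have hsp : VecSt.subschι X Y hY w ⤳ VecSt.subschι X Y hY ζ :=
    specializes_iff_mem_closure.2 (hηC.ge hζC)
  rw [← eq_of_specializes hζ ((VecSt.subschι X Y hY).isEmbedding.isInducing.specializes_iff.1 hsp)]
  exact hη

theorem exists_genericPoint_preimage {η : X} (hη : η ∈ genericPoints X) (hηY : η ∈ Y) :
    ∃ ζ ∈ genericPoints (VecSt.subsch X Y hY), VecSt.subschι X Y hY ζ = η := by
  obtain ⟨ζ, rfl⟩ : η ∈ Set.range (VecSt.subschι X Y hY) := (range_subschι hY).ge hηY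
  refine ⟨ζ, mem_genericPoints_of_forall fun y hy => ?_, rfl⟩
  exact (VecSt.subschι X Y hY).isEmbedding.injective
    (eq_of_specializes hη (hy.map (VecSt.subschι X Y hY).continuous))

theorem subsingleton_push_stalk (I : (VecSt.subsch X Y hY).Modules) {η : X} (hη : η ∉ Y) :
    Subsingleton (((Coh.push (VecSt.subschι X Y hY)).obj I).presheaf.stalk η) :=
  Groth.L17.ClosedPush.subsingleton_stalk_push (VecSt.subschι X Y hY) I fun h => hη ((range_subschι hY).le h)

theorem exists_push_stalk_ne_zero (I : (VecSt.subsch X Y hY).Modules) (hI : TFOne.IsTF1 (VecSt.subsch X Y hY) I)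
    {η : X} (hη : η ∈ genericPoints X) (hηY : η ∈ Y) :
    ∃ s : ((Coh.push (VecSt.subschι X Y hY)).obj I).presheaf.stalk η, s ≠ 0 := by
  haveI := isReduced_subsch hY
  obtain ⟨ζ, hζ, rfl⟩ := exists_genericPoint_preimage hY hη hηY
  obtain ⟨m, hm⟩ := exists_ne_zero hI hζ
  obtain ⟨s, hs⟩ := (Groth.L17.ClosedPush.c₀_bijective (VecSt.subschι X Y hY) I ζ).2 m
  exact ⟨s, fun h => hm (hs.symm.trans (by rw [h]; exact map_zero _))⟩

theorem hom_push_eq_zero [IsLocallyNoetherian X] (hYs : VecSt.IsSubcurve X Y) {F : X.Modules}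
    (J : (VecSt.subsch X Y hY).Modules) [Coh.IsQCoh J] (htf : TorSh.IsTorsionFree J)
    (φ : F ⟶ (Coh.push (VecSt.subschι X Y hY)).obj J)
    (h : ∀ η ∈ genericPoints X, η ∈ Y → ∀ m, (stalkF X η).map φ m = 0) : φ = 0 := by
  haveI := isReduced_subsch hY
  haveI : IsLocallyNoetherian (VecSt.subsch X Y hY) :=
    LocallyOfFiniteType.isLocallyNoetherian (VecSt.subschι X Y hY)
  let ι := VecSt.subschι X Y hY
  refine Scheme.Modules.hom_ext _ _ fun U => ?_
  ext s
  change φ.app U s = 0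
  refine TopCat.Presheaf.section_ext ((Groth.L21.Mod.toAbSh _).obj J) (ι ⁻¹ᵁ U) _ _ fun z hz => ?_
  refine (Eq.trans ?_ (map_zero _).symm)
  refine stalk_eq_zero J htf z _ fun ζ hζ hsp => ?_
  have hζU : ζ ∈ ι ⁻¹ᵁ U := hsp.mem_open (ι ⁻¹ᵁ U).isOpen hz
  have hζY : ι ζ ∈ Y := (range_subschι hY).le ⟨ζ, rfl⟩
  have h1 := h (ι ζ) (subschι_mem_genericPoints hY hYs hζ) hζY (F.presheaf.germ U (ι ζ) hζU s)
  rw [Groth.L21.Mod.stalkF_map_germ] at h1
  refine (ConcreteCategory.congr_hom (TopCat.Presheaf.germ_stalkSpecializes J.presheaf hz hsp) _).trans ?_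
  refine (Groth.L17.ClosedPush.c₀_germ ι J ζ hζU _).symm.trans ?_
  exact (congrArg (Groth.L17.ClosedPush.c₀ ι J ζ) h1).trans (map_zero _)

end Subcurve

theorem full_push {Z : Scheme.{u}} (f : Z ⟶ X) [IsClosedImmersion f] {M N : Z.Modules}
    (ψ : (Coh.push f).obj M ⟶ (Coh.push f).obj N) : ∃ φ : M ⟶ N, (Coh.push f).map φ = ψ := by
  haveI := Groth.L17.ClosedPush.isIso_counit f
  exact ⟨_, (Scheme.Modules.pullbackPushforwardAdjunction f).fullyFaithfulROfIsIsoCounit.map_preimage ψ⟩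

theorem push_map_smulMod {k : Type u} [Field k] [X.Over (Spec (CommRingCat.of k))] {Z : Scheme.{u}} (f : Z ⟶ X)
    (M : Z.Modules) (c : k) :
    (Coh.push f).map (@Formal.smulMod k _ Z ⟨f ≫ (X ↘ Spec (CommRingCat.of k))⟩ M c) =
      Formal.smulMod k ((Coh.push f).obj M) c := by
  letI : Z.Over (Spec (CommRingCat.of k)) := ⟨f ≫ (X ↘ Spec (CommRingCat.of k))⟩
  haveI : f.IsOver (Spec (CommRingCat.of k)) := ⟨rfl⟩
  refine Scheme.Modules.hom_ext _ _ fun U => ?_
  ext m
  change (Formal.smulModΓ M (Coh.toGlobal (Z ↘ Spec (CommRingCat.of k)) c)).app (f ⁻¹ᵁ U) m =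
    (Formal.smulModΓ ((Coh.push f).obj M) (Coh.toGlobal (X ↘ Spec (CommRingCat.of k)) c)).app U m
  rw [KLin.smulModΓ_app_apply, KLin.smulModΓ_app_apply]
  have h : Z.presheaf.map (homOfLE (le_top : f ⁻¹ᵁ U ≤ ⊤)).op (Coh.toGlobal (Z ↘ Spec (CommRingCat.of k)) c) =
      f.app U (X.presheaf.map (homOfLE (le_top : U ≤ ⊤)).op (Coh.toGlobal (X ↘ Spec (CommRingCat.of k)) c)) := by
    refine Eq.trans ?_ (ConcreteCategory.congr_hom (f.naturality (homOfLE (le_top : U ≤ ⊤)).op) _).symm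
    rfl
  rw [h]
  rfl

end Groth.L15.TFCurve
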