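import Groth.Agent.L15.TFCurve.Curve
import Groth.Agent.L16.CohSupport
import Groth.Agent.L16.CohKernel
import Groth.Agent.L00.Skyscraper
import Mathlib.Topology.NoetherianSpace

/-!
# Torsion-free quotients of rank one modules on unions of components: existence and uniqueness
-/

set_option autoImplicit false
set_option linter.style.haveILetI false
set_option backward.isDefEq.respectTransparency false
set_option backward.isDefEq.respectTransparency.types false

universe u

open CategoryTheory CategoryTheory.Limits AlgebraicGeometry TopologicalSpace Opposite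

noncomputable section

namespace Groth.L15.TFCurve

open Groth.L21.Mod (stalkF)
open Groth.L00.Sky (sky toHom)

variable {X : Scheme.{u}}

/-- Every point of `Z` is a specialisation of a generic point of `X` in `Z`. -/
def IsFullSet (Z : Set X) : Prop := ∀ x ∈ Z, ∃ η ∈ genericPoints X, η ∈ Z ∧ η ⤳ x

theorem isFullSet_sUnion {S : Set (Set X)} (hS : S ⊆ irreducibleComponents (X : Type u)) : IsFullSet (⋃₀ S) := by
  rintro x ⟨C, hC, hx⟩
  obtain ⟨η, hη, hηC⟩ := exists_genericPoint_of_component (hS hC)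
  exact ⟨η, hη, ⟨C, hC, hηC ▸ subset_closure rfl⟩, specializes_iff_mem_closure.2 (hηC.ge hx)⟩

theorem isFullSet_of_isSubcurve {Z : Set X} (hZ : VecSt.IsSubcurve X Z) : IsFullSet Z := by
  obtain ⟨S, hS, -, rfl⟩ := hZ
  exact isFullSet_sUnion hS

theorem isFullSet_univ : IsFullSet (Set.univ : Set X) := fun x _ => by
  obtain ⟨η, hη, h⟩ := exists_genericPoint_specializes x
  exact ⟨η, hη, trivial, h⟩

theorem IsFullSet.union {Y Z : Set X} (hY : IsFullSet Y) (hZ : IsFullSet Z) : IsFullSet (Y ∪ Z) := by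
  rintro x (hx | hx)
  · obtain ⟨η, hη, h1, h2⟩ := hY x hx; exact ⟨η, hη, Or.inl h1, h2⟩
  · obtain ⟨η, hη, h1, h2⟩ := hZ x hx; exact ⟨η, hη, Or.inr h1, h2⟩

theorem IsFullSet.subset_of_genericPoints {Y Z : Set X} (hY : IsFullSet Y) (hZ : IsClosed Z)
    (h : ∀ η ∈ genericPoints X, η ∈ Y → η ∈ Z) : Y ⊆ Z := fun x hx => by
  obtain ⟨η, hη, hηY, hηx⟩ := hY x hx
  exact hηx.mem_closed hZ (h η hη hηY)

theorem IsFullSet.isSubcurve {Z : Set X} (hF : IsFullSet Z) (hZ : IsClosed Z) (hne : Z.Nonempty) :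
    VecSt.IsSubcurve X Z := by
  refine ⟨{C | C ∈ irreducibleComponents (X : Type u) ∧ C ⊆ Z}, fun C hC => hC.1, ?_,
    subset_antisymm (fun x hx => ?_) (Set.sUnion_subset fun C hC => hC.2)⟩
  · obtain ⟨x, hx⟩ := hne
    obtain ⟨η, hη, hηZ, -⟩ := hF x hx
    exact ⟨_, closure_mem_of_mem hZ hη hηZ⟩
  · obtain ⟨η, hη, hηZ, hηx⟩ := hF x hx
    exact ⟨_, closure_mem_of_mem hZ hη hηZ, specializes_iff_mem_closure.1 hηx⟩

theorem isClosed_sUnion_components [NoetherianSpace X] {S : Set (Set X)}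
    (hS : S ⊆ irreducibleComponents (X : Type u)) : IsClosed (⋃₀ S) := by
  rw [Set.sUnion_eq_biUnion]
  exact (NoetherianSpace.finite_irreducibleComponents.subset hS).isClosed_biUnion fun C hC =>
    isClosed_of_mem_irreducibleComponents C (hS hC)

/-- The unit into the skyscraper at a point. -/
def toSky (M : X.Modules) (η : X) : M ⟶ sky η ((Groth.L00.Stk.F X η).obj M) := toHom M _ (𝟙 _)

theorem stalk_toSky_eq_zero (M : X.Modules) (η x : X) (m : M.presheaf.stalk x) :
    (stalkF X x).map (toSky M η) m = 0 ↔ ∀ h : η ⤳ x, M.presheaf.stalkSpecializes h m = 0 := by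
  obtain ⟨U, hx, s, rfl⟩ := TopCat.Presheaf.exists_germ_eq M.presheaf m
  rw [Groth.L21.Mod.stalkF_map_germ]
  constructor
  · intro h hsp
    obtain ⟨W, hxW, i₁, i₂, he⟩ := TopCat.Presheaf.germ_eq _ x hx hx _ (0 : Γ(sky η _, U))
      (h.trans (map_zero _).symm)
    have hηW : η ∈ W := hsp.mem_open W.isOpen hxW
    rw [map_zero] at he
    have h1 := congrFun he ⟨hηW⟩
    refine (ConcreteCategory.congr_hom (TopCat.Presheaf.germ_stalkSpecializes M.presheaf hx hsp) s).trans ?_
    exact h1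
  · intro h
    by_cases hη : η ∈ U
    · by_cases hsp : η ⤳ x
      · refine (congrArg _ (show (toSky M η).app U s = 0 from ?_)).trans (map_zero _)
        refine Groth.L00.Sky.sec_ext fun hη' => ?_
        exact (ConcreteCategory.congr_hom (TopCat.Presheaf.germ_stalkSpecializes M.presheaf hx hsp) s).symm.trans (h hsp)
      · obtain ⟨W, hW, hxW, hηW⟩ : ∃ W : Set X, IsOpen W ∧ x ∈ W ∧ η ∉ W := by
          rw [specializes_iff_forall_open] at hsp
          push Not at hsp
          exact hsp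
        rw [← TopCat.Presheaf.germ_res_apply (sky η ((Groth.L00.Stk.F X η).obj M)).presheaf
          (homOfLE (inf_le_left : U ⊓ ⟨W, hW⟩ ≤ U)) x ⟨hx, hxW⟩ ((toSky M η).app U s)]
        refine (congrArg _ ?_).trans (map_zero _)
        exact Groth.L00.Sky.sec_ext fun hη' => absurd hη'.2 hηW
    · refine (congrArg _ (show (toSky M η).app U s = 0 from ?_)).trans (map_zero _)
      exact Groth.L00.Sky.sec_ext fun hη' => absurd hη' hη

theorem isQCoh_sky_genericPoint [IsReduced X] {η : X} (hη : η ∈ genericPoints X)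
    (N : ModuleCat.{u} (X.presheaf.stalk η)) : Coh.IsQCoh (sky η N) :=
  Groth.L16.CohSupport.isQCoh_sky η N fun r hr m => by
    rw [IsLocalRing.isField_iff_maximalIdeal_eq.1 (isField_stalk hη), Ideal.mem_bot] at hr
    rw [hr, zero_smul]

theorem stalkSpecializes_smul (M : X.Modules) {η x : X} (h : η ⤳ x) (r : X.presheaf.stalk x)
    (m : M.presheaf.stalk x) :
    M.presheaf.stalkSpecializes h (r • m : M.presheaf.stalk x) =
      (X.presheaf.stalkSpecializes h r • M.presheaf.stalkSpecializes h m : M.presheaf.stalk η) := by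
  obtain ⟨U, hxU, s, rfl⟩ := TopCat.Presheaf.exists_germ_eq M.presheaf m
  obtain ⟨V, hxV, a, rfl⟩ := TopCat.Presheaf.exists_germ_eq X.presheaf r
  have hx : x ∈ U ⊓ V := ⟨hxU, hxV⟩
  rw [← TopCat.Presheaf.germ_res_apply M.presheaf (homOfLE (inf_le_left : U ⊓ V ≤ U)) x hx s,
    ← TopCat.Presheaf.germ_res_apply X.presheaf (homOfLE (inf_le_right : U ⊓ V ≤ V)) x hx a,
    ← Groth.L20.ModStalk.germ_smul M hx,
    TopCat.Presheaf.germ_stalkSpecializes_apply, TopCat.Presheaf.germ_stalkSpecializes_apply,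
    TopCat.Presheaf.germ_stalkSpecializes_apply, Groth.L20.ModStalk.germ_smul M (h.mem_open (U ⊓ V).isOpen hx)]

theorem stalkSpecializes_ne_zero [IsLocallyNoetherian X] {η x : X} (hη : η ∈ genericPoints X) (h : η ⤳ x)
    {r : X.presheaf.stalk x} (hr : IsRegular r) : X.presheaf.stalkSpecializes h r ≠ 0 := by
  intro h0
  obtain ⟨W, hxW, a₀, rfl⟩ := TopCat.Presheaf.exists_germ_eq X.presheaf r
  obtain ⟨V, hV, hxV, hVW'⟩ := exists_isAffineOpen_mem_and_subset (x := x) (U := W) hxW
  have hVW : V ≤ W := hVW'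
  let a : Γ(X, V) := X.presheaf.map (homOfLE hVW).op a₀
  have ha : X.presheaf.germ V x hxV a = X.presheaf.germ W x hxW a₀ :=
    TopCat.Presheaf.germ_res_apply X.presheaf (homOfLE hVW) x hxV a₀
  rw [← ha] at h0 hr
  rw [TopCat.Presheaf.germ_stalkSpecializes_apply] at h0
  obtain ⟨Q, hQ⟩ : η ∈ Set.range (X.fromSpecStalk x) := by rw [Scheme.range_fromSpecStalk]; exact h
  let Q' : PrimeSpectrum (X.presheaf.stalk x) := Q
  have hmin : Q'.asIdeal ∈ minimalPrimes (X.presheaf.stalk x) := by
    refine ⟨⟨Q'.2, bot_le⟩, fun P hP hPQ => ?_⟩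
    let P' : PrimeSpectrum (X.presheaf.stalk x) := ⟨P, hP.1⟩
    have hsp : X.fromSpecStalk x P' ⤳ X.fromSpecStalk x Q' :=
      ((PrimeSpectrum.le_iff_specializes P' Q').1 hPQ).map (X.fromSpecStalk x).continuous
    have he : X.fromSpecStalk x P' = X.fromSpecStalk x Q' :=
      eq_of_specializes (hQ.symm ▸ hη : X.fromSpecStalk x Q' ∈ genericPoints X) hsp
    exact (congrArg PrimeSpectrum.asIdeal ((X.fromSpecStalk x).isEmbedding.injective he)).ge
  have hnd : X.presheaf.germ V x hxV a ∉ Q'.asIdeal := fun hmem =>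
    Set.disjoint_left.1 (Ideal.disjoint_nonZeroDivisors_of_mem_minimalPrimes hmin) hmem hr.mem_nonZeroDivisors
  refine hnd ?_
  have hηb : η ∉ X.basicOpen a := fun hb => by
    have := (X.mem_basicOpen a η (h.mem_open V.isOpen hxV)).1 hb
    rw [h0] at this
    exact not_isUnit_zero this
  have e1 : hV.fromSpec (Spec.map (X.presheaf.germ V x hxV) Q) = η := by
    rw [← hQ, ← IsAffineOpen.fromSpecStalk_eq_fromSpecStalk hV hxV]
    rfl
  by_contra hna
  refine hηb ?_
  rw [← e1]
  show Spec.map (X.presheaf.germ V x hxV) Q ∈ hV.fromSpec ⁻¹ᵁ X.basicOpen a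
  rw [hV.fromSpec_preimage_basicOpen]
  exact hna

variable [IsReduced X] [IsLocallyNoetherian X]

/-- The submodule of elements vanishing at finitely many generic points. -/
theorem exists_vanishing {M : X.Modules} (hM : Coh.IsCoh M) (T : Finset X) (hT : ∀ η ∈ T, η ∈ genericPoints X) :
    ∃ (N : X.Modules) (ι : N ⟶ M), Mono ι ∧ Coh.IsCoh N ∧ ∀ (x : X) (m : M.presheaf.stalk x),
      (∃ z, (stalkF X x).map ι z = m) ↔ ∀ η ∈ T, ∀ h : η ⤳ x, M.presheaf.stalkSpecializes h m = 0 := by
  classical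
  induction T using Finset.induction with
  | empty => exact ⟨M, 𝟙 M, inferInstance, hM, fun x m => ⟨fun _ η hη => absurd hη (Finset.notMem_empty η),
      fun _ => ⟨m, stalkF_map_id x m⟩⟩⟩
  | insert η T' hη' ih =>
    obtain ⟨N, ι, hι, hN, hiff⟩ := ih fun a ha => hT a (Finset.mem_insert_of_mem ha)
    haveI := hι
    haveI := isQCoh_sky_genericPoint (hT η (Finset.mem_insert_self η T')) ((Groth.L00.Stk.F X η).obj M)
    let f := ι ≫ toSky M η
    refine ⟨kernel f, kernel.ι f ≫ ι, mono_comp _ _, Groth.L16.CohSupport.isCoh_kernel hN f, fun x m => ⟨?_, fun h => ?_⟩⟩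
    · rintro ⟨z, rfl⟩ a ha hsp
      rcases Finset.mem_insert.1 ha with rfl | ha
      · refine (stalk_toSky_eq_zero M a x _).1 ?_ hsp
        rw [← stalkF_map_comp, Category.assoc, kernel.condition]
        exact stalkF_map_zero x z
      · exact (hiff x _).1 ⟨_, (stalkF_map_comp _ _ x z).symm⟩ a ha hsp
    · obtain ⟨z, hz⟩ := (hiff x m).2 fun a ha => h a (Finset.mem_insert_of_mem ha)
      have hfz : (stalkF X x).map f z = 0 := by
        rw [stalkF_map_comp, hz]
        exact (stalk_toSky_eq_zero M η x m).2 fun hsp => h η (Finset.mem_insert_self η T') hsp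
      obtain ⟨w, hw⟩ := (ShortComplex.ab_exact_iff _).1
        ((ShortComplex.exact_kernel f).map (stalkF X x)) z hfz
      exact ⟨w, by rw [stalkF_map_comp]; exact (congrArg ((stalkF X x).map ι) hw).trans hz⟩

variable [NoetherianSpace X] {M : X.Modules}

/-- Torsion-free quotients exist on unions of components. -/
theorem exists_quot (hM : TFOne.IsTF1 X M) {Z : Set X} (hZ : IsClosed Z) (hF : IsFullSet Z) :
    ∃ (G : X.Modules) (π : M ⟶ G), TFOne.IsQuotOn X M Z G π := by
  classical
  have hfin : {η | η ∈ genericPoints X ∧ η ∈ Z}.Finite :=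
    (genericPoints.finite NoetherianSpace.finite_irreducibleComponents).subset fun η h => h.1
  obtain ⟨N, ι, hι, hN, hiff⟩ := exists_vanishing hM.1 hfin.toFinset fun η hη => (hfin.mem_toFinset.1 hη).1
  haveI := hι
  let π := cokernel.π ι
  have hG : Coh.IsCoh (cokernel ι) := (Groth.L16.CohKernel.isCoh_kernel_cokernel hN hM.1 ι).2
  have hker : ∀ (x : X) (m : M.presheaf.stalk x), (stalkF X x).map π m = 0 ↔
      ∀ η ∈ genericPoints X, η ∈ Z → ∀ h : η ⤳ x, M.presheaf.stalkSpecializes h m = 0 := fun x m => by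
    refine Iff.trans ⟨fun h => ?_, ?_⟩ ((hiff x m).trans ⟨fun h η hη hz => h η (hfin.mem_toFinset.2 ⟨hη, hz⟩),
      fun h η hη => h η (hfin.mem_toFinset.1 hη).1 (hfin.mem_toFinset.1 hη).2⟩)
    · exact (ShortComplex.ab_exact_iff _).1 ((ShortComplex.exact_cokernel ι).map (stalkF X x)) m h
    · rintro ⟨z, rfl⟩
      rw [← stalkF_map_comp, cokernel.condition]
      exact stalkF_map_zero x z
  have hsurj : ∀ x, Function.Surjective ((stalkF X x).map π) :=
    (Groth.L21.Mod.epi_iff_stalk_surjective π).1 inferInstance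
  refine ⟨cokernel ι, π, inferInstance, hG, fun x => ?_, subset_antisymm (fun x hx => ?_) fun x hx => ?_⟩
  · refine ⟨fun r hr a b hab => ?_⟩
    obtain ⟨m, rfl⟩ := hsurj x a
    obtain ⟨m', rfl⟩ := hsurj x b
    refine sub_eq_zero.1 ((map_sub _ m m').symm.trans ((hker x (m - m')).2 fun η hη hz hsp => ?_))
    have h0 : (stalkF X x).map π (r • (show M.presheaf.stalk x from m - m') : M.presheaf.stalk x) = 0 := by
      rw [stalkF_map_smul]
      refine Eq.trans ?_ (sub_eq_zero.2 hab)
      show (r • (show (cokernel ι).presheaf.stalk x from (stalkF X x).map π (m - m')) : (cokernel ι).presheaf.stalk x) = _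
      rw [map_sub]
      exact smul_sub r (show (cokernel ι).presheaf.stalk x from (stalkF X x).map π m) ((stalkF X x).map π m')
    have h1 := (hker x _).1 h0 η hη hz hsp
    rw [stalkSpecializes_smul] at h1
    letI := (isField_stalk hη).toField
    exact (smul_eq_zero.1 h1).resolve_left (stalkSpecializes_ne_zero hη hsp hr)
  · by_contra hxZ
    refine hx ⟨fun a b => ?_⟩
    obtain ⟨m, rfl⟩ := hsurj x a
    obtain ⟨m', rfl⟩ := hsurj x b
    exact sub_eq_zero.1 ((map_sub _ m m').symm.trans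
      ((hker x (m - m')).2 fun η hη hz hsp => absurd (hsp.mem_closed hZ hz) hxZ))
  · obtain ⟨η, hη, hηZ, hηx⟩ := hF x hx
    refine hηx.mem_closed (Groth.L16.CohSupport.isClosed_support _ hG.2) fun hsub => ?_
    obtain ⟨m, hm⟩ := exists_ne_zero hM hη
    have h := (hker η m).1 (@Subsingleton.elim _ hsub _ _) η hη hηZ (specializes_refl η)
    rw [TopCat.Presheaf.stalkSpecializes_refl] at h
    exact hm h

omit [NoetherianSpace X] in
/-- Quotients on smaller sets factor through quotients on larger ones. -/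
theorem quot_factor (hM : TFOne.IsTF1 X M) {S T : Set X} {A B : X.Modules} {p : M ⟶ A} {q : M ⟶ B}
    (hp : TFOne.IsQuotOn X M S A p) (hq : TFOne.IsQuotOn X M T B q)
    (hTS : ∀ η ∈ genericPoints X, η ∈ T → η ∈ S) : ∃ g : A ⟶ B, p ≫ g = q := by
  haveI := hp.1
  haveI : Coh.IsQCoh B := hq.2.1.1
  refine exists_desc hq.2.2.1 p q fun η hη m hm => ?_
  by_cases h : η ∈ T
  · exact (congrArg ((stalkF X η).map q) (quot_injective hM hp hη (hTS η hη h) hm)).trans (map_zero _)
  · exact map_eq_zero_of_notMem hq h q m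

omit [NoetherianSpace X] in
theorem quot_unique (hM : TFOne.IsTF1 X M) {S : Set X} {A B : X.Modules} {p : M ⟶ A} {q : M ⟶ B}
    (hp : TFOne.IsQuotOn X M S A p) (hq : TFOne.IsQuotOn X M S B q) : ∃ e : A ≅ B, p ≫ e.hom = q := by
  obtain ⟨g, hg⟩ := quot_factor hM hp hq fun _ _ h => h
  obtain ⟨g', hg'⟩ := quot_factor hM hq hp fun _ _ h => h
  haveI := hp.1
  haveI := hq.1
  refine ⟨⟨g, g', ?_, ?_⟩, hg⟩
  · rw [← cancel_epi p, ← Category.assoc, hg, hg', Category.comp_id]
  · rw [← cancel_epi q, ← Category.assoc, hg', hg, Category.comp_id]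

omit [IsReduced X] [IsLocallyNoetherian X] [NoetherianSpace X] in
/-- A quotient onto an isomorphic module. -/
theorem isQuotOn_comp_iso {S : Set X} {A B : X.Modules} {p : M ⟶ A} (hp : TFOne.IsQuotOn X M S A p) (e : A ≅ B)
    (hcoh : Coh.IsCoh B) : TFOne.IsQuotOn X M S B (p ≫ e.hom) := by
  haveI := hp.1
  refine ⟨inferInstance, hcoh, fun x => ?_, ?_⟩
  · haveI := hp.2.2.1 x
    exact Function.Injective.moduleIsTorsionFree
      (fun m : B.presheaf.stalk x => (show A.presheaf.stalk x from (stalkF X x).map e.inv m))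
      ((Groth.L21.Mod.mono_iff_stalk_injective e.inv).1 inferInstance x) fun r m => stalkF_map_smul e.inv x r m
  · refine Eq.trans ?_ hp.2.2.2
    ext x
    have hb : Function.Bijective ((stalkF X x).map e.hom) :=
      (Groth.L21.Mod.isIso_iff_stalk_bijective e.hom).1 inferInstance x
    exact not_congr ⟨fun h => @Function.Injective.subsingleton _ _ _ hb.1 h, fun h => @Function.Surjective.subsingleton _ _ _ h hb.2⟩

end Groth.L15.TFCurve
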