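import Groth.Agent.L15.TFCurve.Gen
import Groth.Prelude.Def_VecSt
import Mathlib.Topology.KrullDimension

/-!
# Generic points and subcurves of curves of pure dimension one
-/

set_option autoImplicit false
set_option linter.style.haveILetI false

universe u

open CategoryTheory CategoryTheory.Limits AlgebraicGeometry TopologicalSpace

noncomputable section

namespace Groth.L15.TFCurve

variable {X : Scheme.{u}}

/-- On a scheme all whose components are curves, a point that is not closed is generic. -/
theorem mem_genericPoints_of_not_isClosed (hpure : ∀ C ∈ irreducibleComponents (X : Type u), topologicalKrullDim C = 1)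
    {x : X} (hx : ¬ IsClosed ({x} : Set X)) : x ∈ genericPoints X := by
  refine mem_genericPoints_of_forall fun z hz => ?_
  by_contra hne
  obtain ⟨y, hy, hyx⟩ : ∃ y, x ⤳ y ∧ y ≠ x := by
    by_contra! h
    exact hx (closure_subset_iff_isClosed.1 fun y hy => h y (specializes_iff_mem_closure.2 hy))
  let C := irreducibleComponent z
  have hCc : IsClosed C := isClosed_irreducibleComponent
  have hzC : z ∈ C := mem_irreducibleComponent
  have hxC : x ∈ C := hz.mem_closed hCc hzC
  have hyC : y ∈ C := hy.mem_closed hCc hxC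
  have hlt : ∀ a b : C, a.1 ⤳ b.1 → b.1 ≠ a.1 → closure ({b} : Set C) < closure {a} := by
    intro a b hab hne
    refine lt_of_le_of_ne (closure_minimal (Set.singleton_subset_iff.2 ?_) isClosed_closure) fun h => hne ?_
    · exact specializes_iff_mem_closure.1 (Topology.IsInducing.subtypeVal.specializes_iff.1 hab)
    · have h1 : a ∈ closure ({b} : Set C) := by rw [h]; exact subset_closure rfl
      exact ((specializes_iff_mem_closure.2 h1).map continuous_subtype_val |>.antisymm hab).eq
  let ic : C → IrreducibleCloseds C := fun a => ⟨closure {a}, isIrreducible_singleton.closure, isClosed_closure⟩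
  have h1 : ic ⟨y, hyC⟩ < ic ⟨x, hxC⟩ := hlt ⟨x, hxC⟩ ⟨y, hyC⟩ hy hyx
  have h2 : ic ⟨x, hxC⟩ < ic ⟨z, hzC⟩ := hlt ⟨z, hzC⟩ ⟨x, hxC⟩ hz (Ne.symm hne)
  have hdim : Order.krullDim (IrreducibleCloseds C) ≤ 1 :=
    (hpure C (irreducibleComponent_mem_irreducibleComponents z)).le
  rcases Order.krullDim_le_one_iff.1 hdim (ic ⟨x, hxC⟩) with h | h
  · exact h.not_lt h1
  · exact h.not_lt h2

theorem isClosed_of_notMem_genericPoints (hpure : ∀ C ∈ irreducibleComponents (X : Type u), topologicalKrullDim C = 1)
    {x : X} (hx : x ∉ genericPoints X) : IsClosed ({x} : Set X) :=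
  by_contra fun h => hx (mem_genericPoints_of_not_isClosed hpure h)

/-- A generic point lies in a subcurve iff its component does. -/
theorem closure_mem_of_mem {Z : Set X} (hZ : IsClosed Z) {η : X} (hη : η ∈ genericPoints X) (h : η ∈ Z) :
    closure {η} ∈ irreducibleComponents (X : Type u) ∧ closure {η} ⊆ Z :=
  ⟨hη, hZ.closure_subset_iff.2 (Set.singleton_subset_iff.2 h)⟩

theorem IsSubcurve.exists_genericPoint {Z : Set X} (hZ : VecSt.IsSubcurve X Z) :
    ∃ η ∈ genericPoints X, η ∈ Z := by
  obtain ⟨S, hS, ⟨C, hC⟩, rfl⟩ := hZ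
  obtain ⟨η, hη, hC'⟩ := exists_genericPoint_of_component (hS hC)
  exact ⟨η, hη, C, hC, hC' ▸ subset_closure rfl⟩

/-- The support of a torsion-free coherent module is the union of the components of its generic points. -/
theorem support_eq_sUnion [IsReduced X] [IsLocallyNoetherian X] {G : X.Modules} [Coh.IsQCoh G]
    (htf : TorSh.IsTorsionFree G) (hcl : IsClosed (CohB1.support G)) :
    CohB1.support G = ⋃₀ {C | C ∈ irreducibleComponents (X : Type u) ∧ C ⊆ CohB1.support G} := by
  refine subset_antisymm (fun x hx => ?_) (Set.sUnion_subset fun C hC => hC.2)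
  obtain ⟨η, hη, hηx, hηs⟩ := exists_genericPoint_of_mem_support G htf hx
  exact ⟨_, closure_mem_of_mem hcl hη hηs, specializes_iff_mem_closure.1 hηx⟩

end Groth.L15.TFCurve
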