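import Groth.Agent.L15.TFCurve.Quot
import Groth.Agent.L15.TFCurve.Push
import Groth.Agent.L22.CurveDeg.Devissage
import Mathlib.RingTheory.SimpleModule.Basic
import Mathlib.RingTheory.Length

/-!
# `r χ(F_Z) + deg_Z E` is the Euler characteristic of `E ⊗ F_Z`
-/

set_option autoImplicit false
set_option linter.style.haveILetI false
set_option backward.isDefEq.respectTransparency false
set_option backward.isDefEq.respectTransparency.types false

universe u

open CategoryTheory CategoryTheory.Limits AlgebraicGeometry TopologicalSpace Opposite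

noncomputable section

namespace Groth.L15.TFCurve

open Groth.L21.Mod (stalkF)
open Groth.L16.CohSupport (len len_eq_zero_iff)
open Groth.L22.CurveDeg (phi)
open Groth.L21.RR (SuppClosed h)

variable {X : Scheme.{u}}

theorem dim_le_one [IsLocallyNoetherian X]
    (hpure : ∀ C ∈ irreducibleComponents (X : Type u), topologicalKrullDim C = 1) : topologicalKrullDim X ≤ 1 := by
  refine Order.krullDim_le_one_iff.2 fun A => ?_
  obtain ⟨x, hx⟩ := QuasiSober.sober A.2 A.3
  by_cases hc : IsClosed ({x} : Set X)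
  · refine Or.inl fun B hB y hy => ?_
    obtain ⟨z, hz⟩ := B.2.1
    have hAx : (A : Set X) = {x} := hx.def.symm.trans hc.closure_eq
    have hzx : z = x := Set.mem_singleton_iff.1 (hAx ▸ (hB hz : z ∈ (A : Set X)))
    rw [show y = x from Set.mem_singleton_iff.1 (hAx ▸ hy), ← hzx]
    exact hz
  · refine Or.inr fun B hB => ?_
    obtain ⟨z, hz⟩ := QuasiSober.sober B.2 B.3
    have hzx : z = x := eq_of_specializes (mem_genericPoints_of_not_isClosed hpure hc)
      (hz.specializes (hB (show x ∈ (A : Set X) from hx.def.le (subset_closure rfl))))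
    subst hzx
    exact hz.def.ge.trans hx.def.le

theorem len_quot [IsReduced X] {M : X.Modules} (hM : TFOne.IsTF1 X M) {Z : Set X} {G : X.Modules} {π : M ⟶ G}
    (hG : TFOne.IsQuotOn X M Z G π) {η : X} (hη : η ∈ genericPoints X) [Decidable (η ∈ Z)] :
    len η G = if η ∈ Z then 1 else 0 := by
  split_ifs with h
  · haveI := hG.1
    obtain ⟨e⟩ := hM.2.2 η hη
    letI := (isField_stalk hη).toField
    let l : M.presheaf.stalk η →ₗ[X.presheaf.stalk η] G.presheaf.stalk η :=
      ((DerSch.stalkFunctor X η).map π).hom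
    have hb : Function.Bijective l := by
      refine ⟨?_, (Groth.L21.Mod.epi_iff_stalk_surjective π).1 inferInstance η⟩
      exact (injective_iff_map_eq_zero l).2 fun m hm => quot_injective hM hG hη h hm
    show Module.length (X.presheaf.stalk η) (G.presheaf.stalk η) = 1
    rw [← (LinearEquiv.ofBijective l hb).length_eq, e.length_eq]
    exact Module.length_eq_one_iff.2 inferInstance
  · exact (len_eq_zero_iff η G).2 fun h' => h (hG.2.2.2 ▸ h')

theorem len_push_structure_subsch [IsReduced X] {Z : Set X} (hZ : IsClosed Z) {η : X} (hη : η ∈ genericPoints X)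
    [Decidable (η ∈ Z)] :
    len η ((Coh.push (VecSt.subschι X Z hZ)).obj (Coh.structureModule (VecSt.subsch X Z hZ))) =
      if η ∈ Z then 1 else 0 := by
  split_ifs with h
  · haveI := isReduced_subsch hZ
    obtain ⟨ζ, hζ, rfl⟩ := exists_genericPoint_preimage hZ hη h
    let ι := VecSt.subschι X Z hZ
    let S := Coh.structureModule (VecSt.subsch X Z hZ)
    obtain ⟨e₀⟩ := Groth.L22.CurveDeg.nonempty_stalk_equiv (n := 1) (E := S)
      (Groth.L19.ProjBdl.isFinLocFreeOfRank_one_structureModule) ζ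
    let e := (LinearEquiv.funUnique (Fin 1) _ _).symm ≪≫ₗ e₀
    letI := (isField_stalk hζ).toField
    have hb := Groth.L17.ClosedPush.c₀_bijective ι S ζ
    refine Module.length_eq_one_iff.2 ?_
    rw [isSimpleModule_iff_toSpanSingleton_surjective]
    refine ⟨?_, fun m hm z => ?_⟩
    · obtain ⟨o, ho⟩ := hb.2 (e 1)
      exact ⟨⟨o, 0, fun h0 => one_ne_zero (e.injective ((ho.symm.trans ((congrArg (Groth.L17.ClosedPush.c₀ ι S ζ) h0).trans
        (map_zero _))).trans e.map_zero.symm))⟩⟩
    · let a : (VecSt.subsch X Z hZ).presheaf.stalk ζ := e.symm (Groth.L17.ClosedPush.c₀ ι S ζ m)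
      let b : (VecSt.subsch X Z hZ).presheaf.stalk ζ := e.symm (Groth.L17.ClosedPush.c₀ ι S ζ z)
      have ha : a ≠ 0 := fun h0 => hm (hb.1 ((e.symm.injective (h0.trans e.symm.map_zero.symm)).trans (map_zero _).symm))
      obtain ⟨r, hr⟩ := ι.stalkMap_surjective ζ (b * a⁻¹)
      refine ⟨r, hb.1 ?_⟩
      refine (Groth.L17.ClosedPush.c₀_smul ι S ζ r m).trans (e.symm.injective ?_)
      show e.symm ((ι.stalkMap ζ) r • (show S.presheaf.stalk ζ from Groth.L17.ClosedPush.c₀ ι S ζ m)) = b
      rw [map_smul, hr, smul_eq_mul]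
      exact inv_mul_cancel_right₀ ha b
  · exact (len_eq_zero_iff η _).2 fun h' => h' (subsingleton_push_stalk hZ _ h)

variable (k : Type u) [Field k] [X.Over (Spec (CommRingCat.of k))]

/-- `χ(E ⊗ G)`. -/
def beta (E G : X.Modules) : ℤ := Curv2.euler k X (CohB1.tensorMod E G)

theorem beta_eq (E : X.Modules) (r : ℕ) (G : X.Modules) :
    beta k E G = (r : ℤ) * Curv2.euler k X G + phi k E r G := by
  rw [beta, phi]; ring

theorem beta_iso (E : X.Modules) {G G' : X.Modules} (e : G ≅ G') : beta k E G = beta k E G' :=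
  Groth.L03.Euler.euler_iso (Groth.L00.Tensor.tensorIso (Iso.refl E) e)

variable {E : X.Modules} {r : ℕ}

theorem beta_of_isZero [IsProper (X ↘ Spec (CommRingCat.of k))] (hE : FlatMod.IsFinLocFreeOfRank r E) {G : X.Modules}
    (hG : IsZero G) : beta k E G = 0 := by
  haveI := Groth.L21.RR.isNoetherian_of_proper (X := X) k
  rw [beta_eq k E r, Groth.L03.Euler.euler_of_isZero hG,
    Groth.L22.CurveDeg.phi_eq_zero k hE (Groth.L16.Devissage.isCoh_of_isZero hG)
      fun x _ => (Groth.L21.Mod.isZero_iff_stalk_subsingleton G).1 hG x]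
  ring

theorem beta_add [IsProper (X ↘ Spec (CommRingCat.of k))] (hE : FlatMod.IsFinLocFreeOfRank r E)
    {S : ShortComplex X.Modules} (hS : S.ShortExact) (h₁ : Coh.IsCoh S.X₁) (h₂ : Coh.IsCoh S.X₂) (h₃ : Coh.IsCoh S.X₃) :
    beta k E S.X₂ = beta k E S.X₁ + beta k E S.X₃ := by
  rw [beta_eq k E r, beta_eq k E r, beta_eq k E r, Groth.L22.CurveDeg.phi_add k hE hS h₁ h₂ h₃,
    Groth.L03.Euler.euler_add hS h₁ h₂ h₃]
  ring

variable [IsProper (X ↘ Spec (CommRingCat.of k))]

theorem euler_nonneg_of_suppClosed {G : X.Modules} (hs : SuppClosed G) : 0 ≤ Curv2.euler k X G := by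
  rw [Groth.L21.RR.euler_eq_h0_of_suppClosed k hs]
  exact Nat.cast_nonneg _

theorem isZero_of_euler_eq_zero {G : X.Modules} (hG : Coh.IsCoh G) (hs : SuppClosed G)
    (h0 : Curv2.euler k X G = 0) : IsZero G := by
  haveI := Groth.L21.RR.isNoetherian_of_proper (X := X) k
  rw [Groth.L21.RR.euler_eq_h0_of_suppClosed k hs, Nat.cast_eq_zero] at h0
  haveI := Groth.L21.RR.finite_HH' k hG 0
  haveI : Subsingleton (Coh.HH X G 0) := Module.finrank_zero_iff.1 h0
  rw [Groth.L21.Mod.isZero_iff_stalk_subsingleton]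
  refine fun x => subsingleton_of_forall_eq 0 fun v => ?_
  obtain ⟨s, hs', -⟩ := Groth.L21.RR.exists_section_germ hs x v
  rw [← hs', show s = 0 from (Groth.L21.RR.e0 G).symm.injective (Subsingleton.elim _ _), map_zero]

variable (hE : FlatMod.IsFinLocFreeOfRank r E)
include hE

theorem beta_of_suppClosed {G : X.Modules} (hG : Coh.IsCoh G) (hs : SuppClosed G) :
    beta k E G = (r : ℤ) * Curv2.euler k X G := by
  rw [beta_eq k E r, Groth.L22.CurveDeg.phi_eq_zero k hE hG hs, add_zero]

theorem beta_nonneg_of_suppClosed {G : X.Modules} (hG : Coh.IsCoh G) (hs : SuppClosed G) : 0 ≤ beta k E G := by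
  rw [beta_of_suppClosed k hE hG hs]
  exact mul_nonneg (Nat.cast_nonneg _) (euler_nonneg_of_suppClosed k hs)

theorem isZero_of_beta_eq_zero (hr : 0 < r) {G : X.Modules} (hG : Coh.IsCoh G) (hs : SuppClosed G)
    (h0 : beta k E G = 0) : IsZero G := by
  refine isZero_of_euler_eq_zero k hG hs ?_
  rw [beta_of_suppClosed k hE hG hs] at h0
  exact (mul_eq_zero.1 h0).resolve_left (by exact_mod_cast hr.ne')

/-- The degree on a closed union of components. -/
theorem deg_subsch {Z : Set X} (hZ : IsClosed Z) :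
    @Curv2.deg k _ (VecSt.subsch X Z hZ) ⟨VecSt.subschι X Z hZ ≫ (X ↘ Spec (CommRingCat.of k))⟩
      ((Scheme.Modules.pullback (VecSt.subschι X Z hZ)).obj E) r =
      phi k E r ((Coh.push (VecSt.subschι X Z hZ)).obj (Coh.structureModule (VecSt.subsch X Z hZ))) := by
  letI : (VecSt.subsch X Z hZ).Over (Spec (CommRingCat.of k)) := ⟨VecSt.subschι X Z hZ ≫ (X ↘ Spec (CommRingCat.of k))⟩
  haveI : X.IsSeparated := ⟨by
    rw [← terminal.comp_from (X ↘ Spec (CommRingCat.of k))]
    infer_instance⟩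
  haveI := Groth.L21.RR.isNoetherian_of_proper (X := X) k
  haveI : IsLocallyNoetherian (VecSt.subsch X Z hZ) := LocallyOfFiniteType.isLocallyNoetherian (VecSt.subschι X Z hZ)
  rw [Groth.L22.CurveDeg.phi_push k (VecSt.subschι X Z hZ) rfl hE (Coh.structureModule _)
    Groth.L16.CohClosedPush.isCoh_structure.1, Groth.L22.CurveDeg.phi_structure]

/-- `r χ(F_Z) + deg_Z E = χ(E ⊗ F_Z)`. -/
theorem rBeta_eq [IsReduced X] (hpure : ∀ C ∈ irreducibleComponents (X : Type u), topologicalKrullDim C = 1)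
    {M : X.Modules} (hM : TFOne.IsTF1 X M) {Z : Set X} (hZ : IsClosed Z) {G : X.Modules} {π : M ⟶ G}
    (hG : TFOne.IsQuotOn X M Z G π) :
    TFOne.rBeta X k (X ↘ Spec (CommRingCat.of k)) Z hZ E r G = beta k E G := by
  classical
  haveI := Groth.L21.RR.isNoetherian_of_proper (X := X) k
  haveI : IsLocallyNoetherian (VecSt.subsch X Z hZ) := LocallyOfFiniteType.isLocallyNoetherian (VecSt.subschι X Z hZ)
  rw [beta_eq k E r]
  show (r : ℤ) * Curv2.euler k X G + _ = _
  congr 1
  rw [deg_subsch k hE hZ]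
  refine Groth.L22.CurveDeg.phi_eq_of_len k (dim_le_one hpure) hE
    (Groth.L16.CohClosedPush.isCoh_push _ Groth.L16.CohClosedPush.isCoh_structure) hG.2.1 fun y hy => ?_
  have hy' := mem_genericPoints_of_not_isClosed hpure hy
  rw [len_push_structure_subsch hZ hy', len_quot hM hG hy']

theorem beta_self [IsReduced X] (hpure : ∀ C ∈ irreducibleComponents (X : Type u), topologicalKrullDim C = 1)
    {M : X.Modules} (hM : TFOne.IsTF1 X M) :
    beta k E M = (r : ℤ) * Curv2.euler k X M + Curv2.deg k X E r := by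
  haveI := Groth.L21.RR.isNoetherian_of_proper (X := X) k
  rw [beta_eq k E r, ← Groth.L22.CurveDeg.phi_structure]
  congr 1
  refine Groth.L22.CurveDeg.phi_eq_of_len k (dim_le_one hpure) hE hM.1
    Groth.L16.CohClosedPush.isCoh_structure fun y hy => ?_
  have hy' := mem_genericPoints_of_not_isClosed hpure hy
  obtain ⟨e⟩ := hM.2.2 y hy'
  obtain ⟨e'⟩ := Groth.L22.CurveDeg.nonempty_stalk_equiv (n := 1) (E := Coh.structureModule X)
      (Groth.L19.ProjBdl.isFinLocFreeOfRank_one_structureModule) y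
  exact e.length_eq.trans ((LinearEquiv.funUnique (Fin 1) (X.presheaf.stalk y) (X.presheaf.stalk y)).symm.length_eq.trans
    e'.length_eq)

end Groth.L15.TFCurve
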