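import Groth.Agent.L20.ModStalk
import Groth.Agent.L21.Modules
import Groth.Prelude.Def_TorSh
import Groth.Prelude.Def_CohB1
import Mathlib.RingTheory.Ideal.MinimalPrime.Noetherian
import Mathlib.RingTheory.Spectrum.Prime.Topology
import Mathlib.AlgebraicGeometry.Noetherian
import Mathlib.AlgebraicGeometry.Properties
import Mathlib.CategoryTheory.Abelian.Basic

/-!
# Torsion-free quasi-coherent modules on reduced schemes are detected at generic points
-/

set_option autoImplicit false
set_option linter.style.haveILetI false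
set_option backward.isDefEq.respectTransparency false
set_option backward.isDefEq.respectTransparency.types false

universe u

open CategoryTheory CategoryTheory.Limits AlgebraicGeometry TopologicalSpace Opposite

noncomputable section

namespace Groth.L15.TFCurve

open Groth.L21.Mod (stalkF)

section Top

variable {α : Type*} [TopologicalSpace α]

/-- A point without proper generisations is a generic point of a component. -/
theorem mem_genericPoints_of_forall [T0Space α] [QuasiSober α] {η : α} (h : ∀ y, y ⤳ η → y = η) :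
    η ∈ genericPoints α := by
  let C : irreducibleComponents α := ⟨irreducibleComponent η, irreducibleComponent_mem_irreducibleComponents η⟩
  have h1 := h _ ((genericPoints.isGenericPoint_ofComponent C).specializes mem_irreducibleComponent)
  exact h1 ▸ (genericPoints.ofComponent C).2

/-- Generic points have no proper generisations. -/
theorem eq_of_specializes [T0Space α] {η z : α} (hη : η ∈ genericPoints α) (h : z ⤳ η) : z = η := by
  have h1 : closure {η} ⊆ closure ({z} : Set α) :=
    isClosed_closure.closure_subset_iff.2 (Set.singleton_subset_iff.2 (specializes_iff_mem_closure.1 h))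
  have h2 : closure ({z} : Set α) ⊆ closure {η} := hη.2 (isIrreducible_singleton.closure) h1
  exact (h.antisymm (specializes_iff_mem_closure.2 (h2 (subset_closure rfl)))).eq

theorem exists_genericPoint_specializes [QuasiSober α] (y : α) : ∃ η ∈ genericPoints α, η ⤳ y :=
  let C : irreducibleComponents α := ⟨irreducibleComponent y, irreducibleComponent_mem_irreducibleComponents y⟩
  ⟨_, (genericPoints.ofComponent C).2,
    (genericPoints.isGenericPoint_ofComponent C).specializes mem_irreducibleComponent⟩

theorem exists_genericPoint_of_component [QuasiSober α] {C : Set α} (hC : C ∈ irreducibleComponents α) :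
    ∃ η ∈ genericPoints α, closure {η} = C :=
  ⟨_, (genericPoints.ofComponent ⟨C, hC⟩).2, genericPoints.isGenericPoint_ofComponent ⟨C, hC⟩⟩

end Top

variable {X : Scheme.{u}}

theorem stalkF_map_specializes {F G : X.Modules} (φ : F ⟶ G) {η x : X} (h : η ⤳ x) (s : F.presheaf.stalk x) :
    (stalkF X η).map φ (F.presheaf.stalkSpecializes h s) =
      G.presheaf.stalkSpecializes h ((stalkF X x).map φ s) :=
  ConcreteCategory.congr_hom (TopCat.Presheaf.stalkSpecializes_stalkFunctor_map φ.mapPresheaf h) s

/-- An element of a stalk of a quasi-coherent module vanishing at the generisation of a prime is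
killed by an element outside the prime. -/
theorem exists_smul_eq_zero (G : X.Modules) [Coh.IsQCoh G] (x : X) (s : G.presheaf.stalk x)
    (Q : PrimeSpectrum (X.presheaf.stalk x)) (h : X.fromSpecStalk x Q ⤳ x)
    (h0 : G.presheaf.stalkSpecializes h s = 0) :
    ∃ u : X.presheaf.stalk x, u ∉ Q.asIdeal ∧ u • s = 0 := by
  obtain ⟨W, hxW, n, rfl⟩ := TopCat.Presheaf.exists_germ_eq G.presheaf s
  obtain ⟨V, hV, hxV, hVW'⟩ := exists_isAffineOpen_mem_and_subset (x := x) (U := W) hxW
  have hVW : V ≤ W := hVW'
  let m : Γ(G, V) := G.presheaf.map (homOfLE hVW).op n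
  have hm : G.presheaf.germ V x hxV m = G.presheaf.germ W x hxW n :=
    TopCat.Presheaf.germ_res_apply G.presheaf (homOfLE hVW) x hxV n
  rw [← hm] at h0 ⊢
  set η := X.fromSpecStalk x Q with hη
  have hηV : η ∈ V := h.mem_open V.isOpen hxV
  have h1 : G.presheaf.germ V η hηV m = 0 :=
    (ConcreteCategory.congr_hom (TopCat.Presheaf.germ_stalkSpecializes G.presheaf hxV h) m).symm.trans h0
  letI := Groth.L20.ModStalk.stalkModule G hηV
  haveI := Groth.L20.ModStalk.isLocalizedModule_germ G hV hηV
  obtain ⟨v, hv⟩ := (IsLocalizedModule.eq_zero_iff (hV.primeIdealOf ⟨η, hηV⟩).asIdeal.primeCompl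
    (Groth.L20.ModStalk.germₗ G hηV)).1 h1
  refine ⟨X.presheaf.germ V x hxV v, fun hQ => v.2 ?_, ?_⟩
  · have e1 : hV.fromSpec (Spec.map (X.presheaf.germ V x hxV) Q) = η := by
      rw [hη, ← IsAffineOpen.fromSpecStalk_eq_fromSpecStalk hV hxV]
      rfl
    have e2 : hV.primeIdealOf ⟨η, hηV⟩ = Spec.map (X.presheaf.germ V x hxV) Q :=
      hV.fromSpec.isOpenEmbedding.injective ((hV.fromSpec_primeIdealOf ⟨η, hηV⟩).trans e1.symm)
    exact (congrArg (fun q => (v : Γ(X, V)) ∈ q.asIdeal) e2).mpr hQ
  · rw [← Groth.L20.ModStalk.germ_smul G hxV (v : Γ(X, V)) m]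
    exact (congrArg (G.presheaf.germ V x hxV) hv).trans (map_zero _)

theorem stalk_eq_zero [IsReduced X] [IsLocallyNoetherian X] (G : X.Modules) [Coh.IsQCoh G]
    (htf : TorSh.IsTorsionFree G) (x : X) (s : G.presheaf.stalk x)
    (h0 : ∀ η ∈ genericPoints X, ∀ h : η ⤳ x, G.presheaf.stalkSpecializes h s = 0) : s = 0 := by
  let R := X.presheaf.stalk x
  have hmin : ∀ P ∈ minimalPrimes R, ∃ u : R, u ∉ P ∧ u • s = 0 := by
    intro P hP
    let Q : PrimeSpectrum R := ⟨P, hP.isPrime⟩
    have hsp : X.fromSpecStalk x Q ⤳ x := by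
      have h1 : X.fromSpecStalk x Q ∈ Set.range (X.fromSpecStalk x) := ⟨Q, rfl⟩
      rw [Scheme.range_fromSpecStalk] at h1
      exact h1
    refine exists_smul_eq_zero G x s Q hsp (h0 _ (mem_genericPoints_of_forall fun y hy => ?_) hsp)
    obtain ⟨Q'', rfl⟩ : y ∈ Set.range (X.fromSpecStalk x) := by
      rw [Scheme.range_fromSpecStalk]; exact hy.trans hsp
    let Q' : PrimeSpectrum R := Q''
    have hle : Q'.asIdeal ≤ P := PrimeSpectrum.asIdeal_le_asIdeal Q' Q |>.2 ((PrimeSpectrum.le_iff_specializes Q' Q).2
      ((X.fromSpecStalk x).isEmbedding.isInducing.specializes_iff.1 hy))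
    have heq : Q'' = Q := PrimeSpectrum.ext (le_antisymm hle (hP.2 ⟨Q'.2, bot_le⟩ hle))
    rw [heq]
  let I : Ideal R := LinearMap.ker (LinearMap.toSpanSingleton R (G.presheaf.stalk x) s)
  obtain ⟨r, hrI, hr⟩ : ∃ r ∈ I, ∀ P ∈ minimalPrimes R, r ∉ P := by
    by_contra! hall
    obtain ⟨P, hP, hle⟩ := (Ideal.subset_union_prime_finite (minimalPrimes.finite_of_isNoetherianRing R) (f := id) ⊥ ⊥
      (fun P hP _ _ => hP.isPrime)).1 (show (I : Set R) ⊆ ⋃ P ∈ minimalPrimes R, (P : Set R) from
        fun r hr => let ⟨P, hP, hrP⟩ := hall r hr; Set.mem_iUnion₂.2 ⟨P, hP, hrP⟩)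
    obtain ⟨u, hu, hus⟩ := hmin P hP
    exact hu (hle (LinearMap.mem_ker.2 hus))
  have hreg : IsRegular r := by
    rw [Commute.isRegular_iff (Commute.all r)]
    intro a b hab
    have h : a - b ∈ sInf (minimalPrimes R) := Ideal.mem_sInf.2 fun {P} hP =>
      (hP.isPrime.mem_or_mem (show r * (a - b) ∈ P by
        replace hab : r * a = r * b := hab
        rw [mul_sub, hab, sub_self]; exact P.zero_mem)).resolve_left (hr P hP)
    rw [minimalPrimes, Ideal.sInf_minimalPrimes] at h
    exact sub_eq_zero.1 ((IsReduced.eq_zero (a - b) h))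
  haveI := htf x
  refine (Module.IsTorsionFree.isSMulRegular (M := G.presheaf.stalk x) hreg) ?_
  exact (LinearMap.mem_ker.1 hrI).trans (smul_zero r).symm

/-- A morphism into a torsion-free quasi-coherent module is zero if it is zero at generic points. -/
theorem hom_eq_zero [IsReduced X] [IsLocallyNoetherian X] {F G : X.Modules} [Coh.IsQCoh G]
    (htf : TorSh.IsTorsionFree G) (φ : F ⟶ G)
    (h : ∀ η ∈ genericPoints X, ∀ m, (stalkF X η).map φ m = 0) : φ = 0 := by
  rw [Groth.L21.Mod.eq_zero_iff_stalk]
  intro x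
  ext m
  exact stalk_eq_zero G htf x _ fun η hη hsp => (stalkF_map_specializes φ hsp m).symm.trans (h η hη _)

theorem hom_ext [IsReduced X] [IsLocallyNoetherian X] {F G : X.Modules} [Coh.IsQCoh G]
    (htf : TorSh.IsTorsionFree G) {φ ψ : F ⟶ G}
    (h : ∀ η ∈ genericPoints X, ∀ m, (stalkF X η).map φ m = (stalkF X η).map ψ m) : φ = ψ := by
  refine sub_eq_zero.1 (hom_eq_zero htf _ fun η hη m => ?_)
  rw [Functor.map_sub]
  exact sub_eq_zero.2 (h η hη m)

/-- A torsion-free quasi-coherent module with zero generic stalks is zero. -/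
theorem exists_genericPoint_of_mem_support [IsReduced X] [IsLocallyNoetherian X] (G : X.Modules) [Coh.IsQCoh G]
    (htf : TorSh.IsTorsionFree G) {x : X} (hx : x ∈ CohB1.support G) :
    ∃ η ∈ genericPoints X, η ⤳ x ∧ η ∈ CohB1.support G := by
  by_contra! hall
  have h0 : ∀ s : G.presheaf.stalk x, s = 0 := fun s => stalk_eq_zero G htf x s fun η hη hsp => by
    have : Subsingleton (G.presheaf.stalk η) := not_not.1 (hall η hη hsp)
    exact Subsingleton.elim _ _
  exact hx ⟨fun a b => (h0 a).trans (h0 b).symm⟩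

/-- A morphism out of a module vanishing where an epimorphism vanishes, at generic points, factors. -/
theorem exists_desc [IsReduced X] [IsLocallyNoetherian X] {M G H : X.Modules} [Coh.IsQCoh H]
    (htf : TorSh.IsTorsionFree H) (π : M ⟶ G) [Epi π] (f : M ⟶ H)
    (h : ∀ η ∈ genericPoints X, ∀ m, (stalkF X η).map π m = 0 → (stalkF X η).map f m = 0) :
    ∃ g : G ⟶ H, π ≫ g = f := by
  have h0 : kernel.ι π ≫ f = 0 := hom_eq_zero htf _ fun η hη z => by
    rw [Functor.map_comp]
    refine h η hη _ ?_
    have h1 := congrArg (fun t => (stalkF X η).map t z) (kernel.condition π)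
    simp only [Functor.map_zero, Functor.map_comp] at h1
    exact h1
  exact ⟨Abelian.epiDesc π f h0, Abelian.comp_epiDesc π f h0⟩

end Groth.L15.TFCurve
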