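import Groth.Agent.L15.TFCurve.Modif
import Groth.Agent.L17.ClosedPush
import Groth.Agent.L16.AffineBC.Pullback
import Groth.Agent.L16.QcqsPush
import Groth.Prelude.Def_FlatMod2
import Mathlib.RingTheory.DiscreteValuationRing.Basic
import Mathlib.RingTheory.Flat.TorsionFree
import Mathlib.LinearAlgebra.TensorProduct.Quotient

/-!
# The special fibre of an elementary modification over a discrete valuation ring
-/

set_option autoImplicit false
set_option linter.style.haveILetI false
set_option backward.isDefEq.respectTransparency false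
set_option backward.isDefEq.respectTransparency.types false

universe u

open CategoryTheory CategoryTheory.Limits AlgebraicGeometry TopologicalSpace Opposite TensorProduct

noncomputable section

namespace Groth.L15.TFCurve

open Groth.L21.Mod (stalkF)

/-- The kernel of `m ↦ 1 ⊗ m` for a surjective change of rings. -/
theorem tmul_one_eq_zero_iff {R S M : Type u} [CommRing R] [CommRing S] [Algebra R S] [AddCommGroup M] [Module R M]
    (hs : Function.Surjective (algebraMap R S)) (m : M) :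
    (1 : S) ⊗ₜ[R] m = 0 ↔ m ∈ RingHom.ker (algebraMap R S) • (⊤ : Submodule R M) := by
  let J := RingHom.ker (Algebra.ofId R S)
  let e₁ : (R ⧸ J) ≃ₐ[R] S := Ideal.quotientKerAlgEquivOfSurjective (f := Algebra.ofId R S) hs
  let E : S ⊗[R] M ≃ₗ[R] M ⧸ (J • (⊤ : Submodule R M)) :=
    (TensorProduct.congr e₁.toLinearEquiv.symm (LinearEquiv.refl R M)).trans (TensorProduct.quotTensorEquivQuotSMul M J)
  have hE : E ((1 : S) ⊗ₜ[R] m) = Submodule.Quotient.mk m := by
    show TensorProduct.quotTensorEquivQuotSMul M J (e₁.symm 1 ⊗ₜ[R] m) = _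
    rw [map_one, ← map_one (Ideal.Quotient.mk J), TensorProduct.quotTensorEquivQuotSMul_mk_tmul, one_smul]
  rw [← E.map_eq_zero_iff, hE, Submodule.Quotient.mk_eq_zero]
  rfl

variable {X Y : Scheme.{u}}

/-- The unit on stalks. -/
def uStalk (i : X ⟶ Y) [IsClosedImmersion i] (N : Y.Modules) (x : X) :
    N.presheaf.stalk (i x) →+ ((Scheme.Modules.pullback i).obj N).presheaf.stalk x :=
  (Groth.L17.ClosedPush.c₀ i ((Scheme.Modules.pullback i).obj N) x).comp
    ((stalkF Y (i x)).map ((Scheme.Modules.pullbackPushforwardAdjunction i).unit.app N)).hom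

variable (i : X ⟶ Y) [IsClosedImmersion i]

theorem uStalk_germ (N : Y.Modules) (x : X) (V : Y.Opens) (hx : i x ∈ V) (n : Γ(N, V)) :
    uStalk i N x (N.presheaf.germ V (i x) hx n) =
      ((Scheme.Modules.pullback i).obj N).presheaf.germ (i ⁻¹ᵁ V) x hx
        (((Scheme.Modules.pullbackPushforwardAdjunction i).unit.app N).app V n) := by
  refine (congrArg (Groth.L17.ClosedPush.c₀ i ((Scheme.Modules.pullback i).obj N) x)
    (Groth.L21.Mod.stalkF_map_germ _ V (i x) hx n)).trans ?_
  exact Groth.L17.ClosedPush.c₀_germ i _ x hx _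

theorem uStalk_surjective (N : Y.Modules) (x : X) : Function.Surjective (uStalk i N x) := by
  intro z
  obtain ⟨q, hq⟩ := Groth.L17.ClosedPush.unit_extend_surjective i x _
    (((Groth.L00.PullStalk.stalkIso i x).hom.app N) z)
  refine ⟨q, ?_⟩
  apply (ConcreteCategory.bijective_of_isIso ((Groth.L00.PullStalk.stalkIso i x).hom.app N)).1
  exact (Groth.L17.ClosedPush.stalkIso_unit i N x q).trans hq

theorem uStalk_eq_zero_iff (N : Y.Modules) (x : X) (q : N.presheaf.stalk (i x)) :
    uStalk i N x q = 0 ↔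
      q ∈ RingHom.ker (i.stalkMap x).hom • (⊤ : Submodule (Y.presheaf.stalk (i x)) (N.presheaf.stalk (i x))) := by
  have hinj := (ConcreteCategory.bijective_of_isIso ((Groth.L00.PullStalk.stalkIso i x).hom.app N)).1
  have h1 := Groth.L17.ClosedPush.stalkIso_unit i N x q
  letI := (i.stalkMap x).hom.toAlgebra
  refine Iff.trans ⟨fun h => ?_, fun h => hinj ?_⟩
    (tmul_one_eq_zero_iff (S := X.presheaf.stalk x) (i.stalkMap_surjective x) q)
  · exact h1.symm.trans ((congrArg _ h).trans (map_zero _))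
  · exact h1.trans (h.trans (map_zero _).symm)

theorem pullback_map_uStalk {A B : Y.Modules} (g : A ⟶ B) (x : X) (n : A.presheaf.stalk (i x)) :
    (stalkF X x).map ((Scheme.Modules.pullback i).map g) (uStalk i A x n) =
      uStalk i B x ((stalkF Y (i x)).map g n) := by
  obtain ⟨V, hV, m, rfl⟩ := TopCat.Presheaf.exists_germ_eq A.presheaf n
  rw [Groth.L21.Mod.stalkF_map_germ, uStalk_germ, uStalk_germ, Groth.L21.Mod.stalkF_map_germ]
  refine congrArg _ ?_
  exact congrArg (fun k : A ⟶ (Scheme.Modules.pushforward i).obj ((Scheme.Modules.pullback i).obj B) => k.app V m)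
    ((Scheme.Modules.pullbackPushforwardAdjunction i).unit.naturality g).symm

theorem c₀_push_map {P Q : X.Modules} (h : P ⟶ Q) (x : X)
    (q : ((Scheme.Modules.pushforward i).obj P).presheaf.stalk (i x)) :
    Groth.L17.ClosedPush.c₀ i Q x ((stalkF Y (i x)).map ((Scheme.Modules.pushforward i).map h) q) =
      (stalkF X x).map h (Groth.L17.ClosedPush.c₀ i P x q) := by
  obtain ⟨V, hV, m, rfl⟩ := TopCat.Presheaf.exists_germ_eq ((Scheme.Modules.pushforward i).obj P).presheaf q
  rw [Groth.L21.Mod.stalkF_map_germ]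
  refine (Groth.L17.ClosedPush.c₀_germ i Q x hV _).trans ?_
  refine Eq.trans ?_ (congrArg ((stalkF X x).map h) (Groth.L17.ClosedPush.c₀_germ i P x hV m)).symm
  exact (Groth.L21.Mod.stalkF_map_germ h (i ⁻¹ᵁ V) x hV m).symm

theorem stalkF_map_smulModΓ (M : Y.Modules) (r : Γ(Y, ⊤)) (y : Y) (m : M.presheaf.stalk y) :
    (stalkF Y y).map (Formal.smulModΓ M r) m = (Y.presheaf.germ ⊤ y trivial r • m : M.presheaf.stalk y) := by
  obtain ⟨U, hx, s, rfl⟩ := TopCat.Presheaf.exists_germ_eq M.presheaf m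
  rw [Groth.L21.Mod.stalkF_map_germ]
  have h1 : (Formal.smulModΓ M r).app U s = (Y.presheaf.map (homOfLE (le_top : U ≤ ⊤)).op r • s : Γ(M, U)) := rfl
  rw [h1, Groth.L20.ModStalk.germ_smul]
  congr 1
  exact TopCat.Presheaf.germ_res_apply Y.presheaf (homOfLE le_top) y hx _

section DVR

variable {R : Type u} [CommRing R]

/-- A morphism to a spectrum near a point. -/
theorem fromSpecStalk_comp (f : Y ⟶ Spec (CommRingCat.of R)) (y : Y) :
    Y.fromSpecStalk y ≫ f =
      Spec.map (CommRingCat.ofHom ((Y.presheaf.germ ⊤ y trivial).hom.comp (Coh.toGlobal f))) := by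
  have hf : f = Y.toSpecΓ ≫ Spec.map (f.appTop) ≫ Spec.map (Scheme.ΓSpecIso (CommRingCat.of R)).inv := by
    rw [← Category.assoc, ← Scheme.toSpecΓ_naturality, Category.assoc, ← SpecMap_ΓSpecIso_hom, ← Spec.map_comp,
      Iso.inv_hom_id, Spec.map_id, Category.comp_id]
  conv_lhs => rw [hf]
  rw [← Category.assoc, Scheme.fromSpecStalk_toSpecΓ, ← Spec.map_comp, ← Spec.map_comp]
  rfl

variable [IsDomain R] [IsDiscreteValuationRing R] (f : Y ⟶ Spec (CommRingCat.of R))
  (q : X ⟶ Spec (CommRingCat.of (IsLocalRing.ResidueField R)))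
  (hsq : IsPullback i q f (Spec.map (CommRingCat.ofHom (IsLocalRing.residue R)))) {ϖ : R} (hϖ : Irreducible ϖ)

/-- The uniformiser at a point. -/
def tGerm (ϖ : R) (y : Y) : Y.presheaf.stalk y := Y.presheaf.germ ⊤ y trivial (Coh.toGlobal f ϖ)

include hsq hϖ in
theorem ker_stalkMap_eq (x : X) :
    RingHom.ker (i.stalkMap x).hom = Ideal.span {tGerm f ϖ (i x)} := by
  have hres : IsLocalRing.residue R ϖ = 0 := by
    rw [IsLocalRing.residue_eq_zero_iff, IsLocalRing.mem_maximalIdeal]
    exact hϖ.not_isUnit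
  have h0 : (i.stalkMap x).hom (tGerm f ϖ (i x)) = 0 := by
    refine (Scheme.Hom.germ_stalkMap_apply i ⊤ x trivial _).trans ?_
    have h1 : i.appTop (Coh.toGlobal f ϖ) = Coh.toGlobal (i ≫ f) ϖ := rfl
    have h2 : Coh.toGlobal (i ≫ f) ϖ = 0 := by
      rw [hsq.w]
      show q.appTop ((Spec.map (CommRingCat.ofHom (IsLocalRing.residue R))).appTop ((Scheme.ΓSpecIso _).inv ϖ)) = 0
      rw [← CategoryTheory.ConcreteCategory.comp_apply (Scheme.ΓSpecIso _).inv, ← Scheme.ΓSpecIso_inv_naturality]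
      show q.appTop ((Scheme.ΓSpecIso _).inv (IsLocalRing.residue R ϖ)) = 0
      rw [hres, map_zero, map_zero]
    refine (congrArg _ (h1.trans h2)).trans (map_zero _)
  refine le_antisymm (fun a ha => ?_) ?_
  swap
  · rw [Ideal.span_singleton_le_iff_mem, RingHom.mem_ker]; exact h0
  let A := Ideal.span {tGerm f ϖ (i x)}
  have hne : A ≠ ⊤ := fun e => (RingHom.ker_ne_top (i.stalkMap x).hom) (top_le_iff.1 (e ▸
    (by rw [Ideal.span_singleton_le_iff_mem, RingHom.mem_ker]; exact h0)))
  let Q := CommRingCat.of (Y.presheaf.stalk (i x) ⧸ A)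
  haveI : Nontrivial Q := Ideal.Quotient.nontrivial_iff.mpr hne
  have hsurj : Function.Surjective (Ideal.Quotient.mk A) := Ideal.Quotient.mk_surjective
  let π : Y.presheaf.stalk (i x) ⟶ Q := CommRingCat.ofHom (Ideal.Quotient.mk A)
  haveI : IsLocalRing Q := IsLocalRing.of_surjective' π.hom hsurj
  let φ : R →+* Y.presheaf.stalk (i x) := (Y.presheaf.germ ⊤ (i x) trivial).hom.comp (Coh.toGlobal f)
  let ρ : CommRingCat.of (IsLocalRing.ResidueField R) ⟶ Q := CommRingCat.ofHom
    (Ideal.Quotient.lift (IsLocalRing.maximalIdeal R) ((Ideal.Quotient.mk A).comp φ) fun r hr => by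
      rw [hϖ.maximalIdeal_eq, Ideal.mem_span_singleton] at hr
      obtain ⟨s, rfl⟩ := hr
      refine Ideal.Quotient.eq_zero_iff_mem.2 ?_
      rw [map_mul]
      exact Ideal.mul_mem_right _ _ (Ideal.mem_span_singleton_self _))
  have hρ : CommRingCat.ofHom (IsLocalRing.residue R) ≫ ρ = CommRingCat.ofHom φ ≫ π := rfl
  let l : Spec Q ⟶ X := hsq.lift (Spec.map π ≫ Y.fromSpecStalk (i x)) (Spec.map ρ) (by
    rw [Category.assoc, fromSpecStalk_comp, ← Spec.map_comp, ← Spec.map_comp, hρ])
  have hl : l ≫ i = Spec.map π ≫ Y.fromSpecStalk (i x) := hsq.lift_fst _ _ _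
  haveI hπ : IsLocalHom π.hom := IsLocalHom.of_surjective π.hom hsurj
  have hpt : l (IsLocalRing.closedPoint Q) = x := by
    apply i.isEmbedding.injective
    rw [← Scheme.Hom.comp_apply, hl, Scheme.Hom.comp_apply]
    rw [show (Spec.map π) (IsLocalRing.closedPoint Q) = IsLocalRing.closedPoint _ from
      IsLocalRing.comap_closedPoint π.hom]
    exact Scheme.fromSpecStalk_closedPoint
  let θ : X.presheaf.stalk x ⟶ Q :=
    X.presheaf.stalkSpecializes (specializes_of_eq hpt) ≫ Scheme.stalkClosedPointTo l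
  have hθ : i.stalkMap x ≫ θ = π := by
    apply Spec.map_injective
    rw [← cancel_mono (Y.fromSpecStalk (i x))]
    simp only [θ, Spec.map_comp, Category.assoc]
    rw [Scheme.SpecMap_stalkMap_fromSpecStalk, Scheme.SpecMap_stalkSpecializes_fromSpecStalk_assoc,
      Scheme.Spec_stalkClosedPointTo_fromSpecStalk_assoc, hl]
  rw [← Ideal.Quotient.eq_zero_iff_mem]
  show π.hom a = 0
  rw [← hθ]
  show θ.hom ((i.stalkMap x).hom a) = 0
  rw [RingHom.mem_ker.mp ha, map_zero]

include hsq hϖ in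
theorem uStalk_eq_zero_iff_smul (N : Y.Modules) (x : X) (n : N.presheaf.stalk (i x)) :
    uStalk i N x n = 0 ↔ ∃ m : N.presheaf.stalk (i x), tGerm f ϖ (i x) • m = n := by
  rw [uStalk_eq_zero_iff, ker_stalkMap_eq i f q hsq hϖ x, Submodule.ideal_span_singleton_smul,
    Submodule.mem_smul_pointwise_iff_exists]
  exact ⟨fun ⟨m, _, hm⟩ => ⟨m, hm⟩, fun ⟨m, hm⟩ => ⟨m, trivial, hm⟩⟩

include hϖ in
theorem tGerm_smul_injective {M : Y.Modules} (hM : FlatMod.IsFlatOver f M) (y : Y) :
    Function.Injective fun m : M.presheaf.stalk y => tGerm f ϖ y • m := by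
  let S := (Spec (CommRingCat.of R)).presheaf.stalk (f y)
  let a : S := (Spec (CommRingCat.of R)).presheaf.germ ⊤ (f y) trivial ((Scheme.ΓSpecIso (CommRingCat.of R)).inv ϖ)
  have ha : a ≠ 0 := fun h => hϖ.ne_zero (by
    have h1 := (germ_injective_of_isIntegral (Spec (CommRingCat.of R)) (f y) (U := ⊤) trivial)
      (h.trans (map_zero _).symm)
    simpa using congrArg (Scheme.ΓSpecIso (CommRingCat.of R)).hom h1)
  have hat : (f.stalkMap y).hom a = tGerm f ϖ y := Scheme.Hom.germ_stalkMap_apply f ⊤ y trivial _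
  letI : Module S (M.presheaf.stalk y) := FlatMod.moduleStalkOver f M y
  haveI : Module.Flat S (M.presheaf.stalk y) := hM y
  have hreg := Module.IsTorsionFree.isSMulRegular (R := S) (M := M.presheaf.stalk y) (isRegular_of_ne_zero ha)
  intro m m' h
  refine hreg ?_
  show ((f.stalkMap y).hom a) • m = ((f.stalkMap y).hom a) • m'
  rw [hat]
  exact h

include hsq hϖ in
/-- The special fibre of the kernel of `I → i_* F_Y`. -/
theorem nonempty_modif [IsLocallyNoetherian Y] {I : Y.Modules} (hIc : Coh.IsCoh I) (hIf : FlatMod.IsFlatOver f I)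
    {GY : X.Modules} (hGYc : Coh.IsCoh GY) (πY : (Scheme.Modules.pullback i).obj I ⟶ GY) [Epi πY] {J : Y.Modules}
    (hJ : J = kernel ((Scheme.Modules.pullbackPushforwardAdjunction i).unit.app I ≫
      (Scheme.Modules.pushforward i).map πY)) :
    Nonempty (Modif πY ((Scheme.Modules.pullback i).obj J)) := by
  subst hJ
  let g := (Scheme.Modules.pullbackPushforwardAdjunction i).unit.app I ≫ (Scheme.Modules.pushforward i).map πY
  let J := kernel g
  haveI : Coh.IsQCoh GY := hGYc.1
  haveI : Coh.IsQCoh ((Scheme.Modules.pushforward i).obj GY) := Groth.L16.QcqsPush.isQCoh_push GY i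
  have hgu : ∀ (x : X) (n : I.presheaf.stalk (i x)),
      Groth.L17.ClosedPush.c₀ i GY x ((stalkF Y (i x)).map g n) = (stalkF X x).map πY (uStalk i I x n) := fun x n => by
    rw [stalkF_map_comp]
    exact c₀_push_map i πY x _
  have hmem : ∀ (x : X) (n : I.presheaf.stalk (i x)), (stalkF X x).map πY (uStalk i I x n) = 0 →
      ∃ j, (stalkF Y (i x)).map (kernel.ι g) j = n := fun x n h => by
    refine stalk_exact (ShortComplex.exact_kernel g) (i x) ((Groth.L17.ClosedPush.c₀_bijective i GY x).1 ?_)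
    rw [hgu, h]; exact (map_zero _).symm
  have hzero : ∀ (x : X) (j : J.presheaf.stalk (i x)),
      (stalkF X x).map πY (uStalk i I x ((stalkF Y (i x)).map (kernel.ι g) j)) = 0 := fun x j => by
    rw [← hgu, stalk_comp_eq_zero (kernel.condition g)]; exact map_zero _
  let t : I ⟶ I := Formal.smulModΓ I (Coh.toGlobal f ϖ)
  have ht0 : t ≫ g = 0 := by
    rw [Groth.L21.Mod.eq_zero_iff_stalk]
    intro y
    ext m
    by_cases hy : y ∈ Set.range i
    · obtain ⟨x, rfl⟩ := hy
      apply (Groth.L17.ClosedPush.c₀_bijective i GY x).1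
      rw [stalkF_map_comp]
      refine (hgu x _).trans ?_
      refine ((congrArg ((stalkF X x).map πY) ((congrArg (uStalk i I x) (stalkF_map_smulModΓ I _ (i x) m)).trans
        ((uStalk_eq_zero_iff_smul i f q hsq hϖ I x _).2 ⟨m, rfl⟩))).trans (map_zero _)).trans ?_
      exact (map_zero _).symm
    · exact @Subsingleton.elim _ (Groth.L17.ClosedPush.subsingleton_stalk_push i GY hy) _ _
  let μ : I ⟶ J := kernel.lift g t ht0
  have hμ : μ ≫ kernel.ι g = t := kernel.lift_ι _ _ _
  have hκμ : ∀ (x : X) (n : I.presheaf.stalk (i x)),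
      (stalkF Y (i x)).map (kernel.ι g) ((stalkF Y (i x)).map μ n) = (tGerm f ϖ (i x) • n : I.presheaf.stalk (i x)) :=
    fun x n => by rw [← stalkF_map_comp, hμ]; exact stalkF_map_smulModΓ I _ (i x) n
  have hκsmul : ∀ (x : X) (j : J.presheaf.stalk (i x)),
      (stalkF Y (i x)).map (kernel.ι g) (tGerm f ϖ (i x) • j : J.presheaf.stalk (i x)) =
        (tGerm f ϖ (i x) • (show I.presheaf.stalk (i x) from (stalkF Y (i x)).map (kernel.ι g) j) : I.presheaf.stalk (i x)) :=
    fun x j => stalkF_map_smul _ _ _ _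
  let b := (Scheme.Modules.pullback i).map (kernel.ι g)
  have hbu : ∀ (x : X) (j : J.presheaf.stalk (i x)),
      (stalkF X x).map b (uStalk i J x j) = uStalk i I x ((stalkF Y (i x)).map (kernel.ι g) j) := fun x j =>
    pullback_map_uStalk i _ x j
  have wπ : b ≫ πY = 0 := by
    rw [Groth.L21.Mod.eq_zero_iff_stalk]
    intro x
    ext z
    obtain ⟨j, rfl⟩ := uStalk_surjective i J x z
    rw [stalkF_map_comp, hbu]
    exact (hzero x j).trans rfl
  obtain ⟨a, ha⟩ : ∃ a, πY ≫ a = (Scheme.Modules.pullback i).map μ := by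
    refine ⟨Abelian.epiDesc πY ((Scheme.Modules.pullback i).map μ) ?_, Abelian.comp_epiDesc _ _ _⟩
    rw [Groth.L21.Mod.eq_zero_iff_stalk]
    intro x
    ext z
    rw [stalkF_map_comp]
    obtain ⟨n, hn⟩ := uStalk_surjective i I x ((stalkF X x).map (kernel.ι πY) z)
    obtain ⟨j, rfl⟩ := hmem x n (by rw [hn]; exact stalk_comp_eq_zero (kernel.condition πY) x z)
    rw [← hn, pullback_map_uStalk, (uStalk_eq_zero_iff_smul i f q hsq hϖ J x _).2 ⟨j, ?_⟩]
    · rfl
    · refine stalk_injective (kernel.ι g) (i x) ?_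
      rw [hκμ, hκsmul]
  have hau : ∀ (x : X) (n : I.presheaf.stalk (i x)),
      (stalkF X x).map a ((stalkF X x).map πY (uStalk i I x n)) = uStalk i J x ((stalkF Y (i x)).map μ n) := fun x n => by
    rw [← stalkF_map_comp, ha, pullback_map_uStalk]
  have w : a ≫ b = 0 := by
    rw [← cancel_epi πY, comp_zero, ← Category.assoc, ha, Groth.L21.Mod.eq_zero_iff_stalk]
    intro x
    ext z
    obtain ⟨n, rfl⟩ := uStalk_surjective i I x z
    rw [stalkF_map_comp, pullback_map_uStalk, hbu, hκμ, (uStalk_eq_zero_iff_smul i f q hsq hϖ I x _).2 ⟨n, rfl⟩]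
    rfl
  have hcoh : Coh.IsCoh ((Scheme.Modules.pullback i).obj J) :=
    Groth.L16.AffineBC.isCoh_pullback i (Groth.L16.CohSupport.isCoh_kernel hIc g)
  refine ⟨⟨a, b, ?_, w, ?_, wπ, ?_, hcoh⟩⟩
  · rw [Groth.L21.Mod.mono_iff_stalk_injective]
    intro x
    refine (injective_iff_map_eq_zero _).2 fun s hs => ?_
    obtain ⟨z, rfl⟩ := stalk_surjective πY x s
    obtain ⟨n, rfl⟩ := uStalk_surjective i I x z
    rw [hau] at hs
    obtain ⟨j, hj⟩ := (uStalk_eq_zero_iff_smul i f q hsq hϖ J x _).1 hs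
    have h2 := congrArg ((stalkF Y (i x)).map (kernel.ι g)) hj
    rw [hκμ, hκsmul] at h2
    rw [← tGerm_smul_injective f hϖ hIf (i x) h2]
    exact hzero x j
  · rw [Groth.L21.Mod.exact_iff_stalk]
    intro x
    rw [ShortComplex.ab_exact_iff]
    intro z hz
    obtain ⟨j, rfl⟩ := uStalk_surjective i J x z
    obtain ⟨n, hn⟩ := (uStalk_eq_zero_iff_smul i f q hsq hϖ I x _).1 ((hbu x j).symm.trans hz)
    refine ⟨(stalkF X x).map πY (uStalk i I x n), (hau x n).trans (congrArg (uStalk i J x) ?_)⟩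
    exact stalk_injective (kernel.ι g) (i x) ((hκμ x n).trans hn)
  · rw [Groth.L21.Mod.exact_iff_stalk]
    intro x
    rw [ShortComplex.ab_exact_iff]
    intro z hz
    obtain ⟨n, rfl⟩ := uStalk_surjective i I x z
    obtain ⟨j, rfl⟩ := hmem x n hz
    exact ⟨uStalk i J x j, hbu x j⟩

end DVR

end Groth.L15.TFCurve
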