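import Groth.Agent.L15.TFCurve.Basic
import Groth.Agent.L00.StalkFunctor
import Groth.Prelude.Def_TFOne
import Groth.Prelude.Def_KLin
import Mathlib.RingTheory.Nilpotent.Lemmas

/-!
# Torsion-free rank one modules at the generic points
-/

set_option autoImplicit false
set_option linter.style.haveILetI false
set_option backward.isDefEq.respectTransparency false
set_option backward.isDefEq.respectTransparency.types false

universe u

open CategoryTheory CategoryTheory.Limits AlgebraicGeometry TopologicalSpace Opposite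

noncomputable section

namespace Groth.L15.TFCurve

open Groth.L21.Mod (stalkF)

variable {X : Scheme.{u}}

theorem stalkF_map_smul {F G : X.Modules} (φ : F ⟶ G) (x : X) (r : X.presheaf.stalk x) (m : F.presheaf.stalk x) :
    (stalkF X x).map φ (r • m : F.presheaf.stalk x) =
      (r • (show G.presheaf.stalk x from (stalkF X x).map φ m) : G.presheaf.stalk x) :=
  ((DerSch.stalkFunctor X x).map φ).hom.map_smul r m

theorem stalkF_map_comp {F G H : X.Modules} (φ : F ⟶ G) (ψ : G ⟶ H) (x : X) (m : F.presheaf.stalk x) :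
    (stalkF X x).map (φ ≫ ψ) m = (stalkF X x).map ψ ((stalkF X x).map φ m) :=
  ConcreteCategory.congr_hom ((stalkF X x).map_comp φ ψ) m

theorem stalkF_map_zero {F G : X.Modules} (x : X) (m : F.presheaf.stalk x) :
    (stalkF X x).map (0 : F ⟶ G) m = 0 := by
  rw [Functor.map_zero]; rfl

theorem stalkF_map_sub {F G : X.Modules} (φ ψ : F ⟶ G) (x : X) (m : F.presheaf.stalk x) :
    (stalkF X x).map (φ - ψ) m = (stalkF X x).map φ m - (stalkF X x).map ψ m := by
  rw [Functor.map_sub]; rfl

theorem stalkF_map_add {F G : X.Modules} (φ ψ : F ⟶ G) (x : X) (m : F.presheaf.stalk x) :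
    (stalkF X x).map (φ + ψ) m = (stalkF X x).map φ m + (stalkF X x).map ψ m := by
  rw [Functor.map_add]; rfl

theorem stalkF_map_id {F : X.Modules} (x : X) (m : F.presheaf.stalk x) :
    (stalkF X x).map (𝟙 F) m = m := by
  rw [CategoryTheory.Functor.map_id]; rfl

/-- The local ring of a reduced scheme at a generic point is a field. -/
theorem isField_stalk [IsReduced X] {η : X} (hη : η ∈ genericPoints X) : IsField (X.presheaf.stalk η) := by
  rw [IsLocalRing.isField_iff_maximalIdeal_eq]
  refine le_antisymm ?_ bot_le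
  refine le_trans ?_ (nilradical_eq_zero (X.presheaf.stalk η)).le
  rw [nilradical_eq_sInf]
  refine le_sInf fun P hP => ?_
  let Q : PrimeSpectrum (X.presheaf.stalk η) := ⟨P, hP⟩
  have h1 : X.fromSpecStalk η Q ⤳ η := by
    have h : X.fromSpecStalk η Q ∈ Set.range (X.fromSpecStalk η) := ⟨Q, rfl⟩
    rw [Scheme.range_fromSpecStalk] at h
    exact h
  have h2 : X.fromSpecStalk η Q = X.fromSpecStalk η (IsLocalRing.closedPoint (X.presheaf.stalk η)) :=
    (eq_of_specializes hη h1).trans Scheme.fromSpecStalk_closedPoint.symm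
  exact (congrArg PrimeSpectrum.asIdeal ((X.fromSpecStalk η).isEmbedding.injective h2)).ge

section Scalars

variable {k : Type u} [Field k] [X.Over (Spec (CommRingCat.of k))]

/-- The scalars at a point. -/
def genK (k : Type u) [Field k] [X.Over (Spec (CommRingCat.of k))] (x : X) : k →+* X.presheaf.stalk x :=
  (X.presheaf.germ ⊤ x trivial).hom.comp (Coh.toGlobal (X ↘ Spec (CommRingCat.of k)))

theorem genK_injective (x : X) : Function.Injective (genK k x) := (genK k x).injective

theorem stalkF_map_smulMod (M : X.Modules) (c : k) (x : X) (m : M.presheaf.stalk x) :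
    (stalkF X x).map (Formal.smulMod k M c) m = (genK k x c • m : M.presheaf.stalk x) := by
  obtain ⟨U, hx, s, rfl⟩ := TopCat.Presheaf.exists_germ_eq M.presheaf m
  rw [Groth.L21.Mod.stalkF_map_germ]
  have h1 : (Formal.smulMod k M c).app U s =
      (X.presheaf.map (homOfLE (le_top : U ≤ ⊤)).op (Coh.toGlobal (X ↘ Spec (CommRingCat.of k)) c) • s : Γ(M, U)) := rfl
  rw [h1, Groth.L20.ModStalk.germ_smul]
  congr 1
  exact TopCat.Presheaf.germ_res_apply X.presheaf (homOfLE le_top) x hx _

/-- Multiplication by scalars is natural. -/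
theorem smulMod_comm {M N : X.Modules} (φ : M ⟶ N) (c : k) :
    Formal.smulMod k M c ≫ φ = φ ≫ Formal.smulMod k N c :=
  (KLin.comp_smulModΓ φ _).symm

theorem smulMod_zero (M : X.Modules) : Formal.smulMod k M (0 : k) = 0 := by
  rw [← KLin.smul_id, zero_smul]

theorem isIso_smulMod (M : X.Modules) {c : k} (hc : c ≠ 0) : IsIso (Formal.smulMod k M c) := by
  refine ⟨⟨Formal.smulMod k M c⁻¹, ?_, ?_⟩⟩ <;>
    rw [← KLin.smul_id, ← KLin.smul_id, Linear.smul_comp, Category.id_comp, smul_smul] <;>
    simp [hc]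

end Scalars

section RankOne

variable [IsReduced X] {M : X.Modules}

/-- A generic stalk of a rank one module is generated by any nonzero element. -/
theorem exists_smul_eq (hM : TFOne.IsTF1 X M) {η : X} (hη : η ∈ genericPoints X) {m : M.presheaf.stalk η}
    (hm : m ≠ 0) (m' : M.presheaf.stalk η) : ∃ c : X.presheaf.stalk η, c • m = m' := by
  obtain ⟨e⟩ := hM.2.2 η hη
  letI := (isField_stalk hη).toField
  obtain ⟨d, hd⟩ : ∃ d, d * e m = e m' :=
    ⟨e m' * (e m)⁻¹, inv_mul_cancel_right₀ (fun h => hm (e.injective (h.trans e.map_zero.symm))) (e m')⟩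
  exact ⟨d, e.injective ((e.map_smul d m).trans hd)⟩

theorem exists_ne_zero (hM : TFOne.IsTF1 X M) {η : X} (hη : η ∈ genericPoints X) :
    ∃ m : M.presheaf.stalk η, m ≠ 0 := by
  obtain ⟨e⟩ := hM.2.2 η hη
  exact ⟨e.symm 1, fun h => one_ne_zero (α := X.presheaf.stalk η) (by
    rw [← e.apply_symm_apply 1, h, map_zero])⟩

theorem exists_scalar (hM : TFOne.IsTF1 X M) {η : X} (hη : η ∈ genericPoints X) (φ : M ⟶ M) :
    ∃ c : X.presheaf.stalk η, ∀ m : M.presheaf.stalk η, (stalkF X η).map φ m = (c • m : M.presheaf.stalk η) := by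
  obtain ⟨m₀, h₀⟩ := exists_ne_zero hM hη
  obtain ⟨c, hc⟩ := exists_smul_eq hM hη h₀ ((stalkF X η).map φ m₀)
  refine ⟨c, fun m => ?_⟩
  obtain ⟨a, rfl⟩ := exists_smul_eq hM hη h₀ m
  rw [stalkF_map_smul, smul_smul, mul_comm c, ← smul_smul]
  exact congrArg (a • ·) hc.symm

theorem scalar_unique (hM : TFOne.IsTF1 X M) {η : X} (hη : η ∈ genericPoints X)
    {c d : X.presheaf.stalk η} (h : ∀ m : M.presheaf.stalk η, c • m = d • m) : c = d := by
  obtain ⟨e⟩ := hM.2.2 η hη
  have h1 := congrArg e (h (e.symm 1))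
  rwa [map_smul, map_smul, e.apply_symm_apply, smul_eq_mul, smul_eq_mul, mul_one, mul_one] at h1

theorem not_isZero_of_genericPoint (hM : TFOne.IsTF1 X M) {η : X} (hη : η ∈ genericPoints X) : ¬ IsZero M := fun h => by
  obtain ⟨m, hm⟩ := exists_ne_zero hM hη
  haveI := (Groth.L21.Mod.isZero_iff_stalk_subsingleton M).1 h η
  exact hm (Subsingleton.elim _ _)

/-- A morphism out of a rank one module with nonzero value on a generic stalk is injective there. -/
theorem eq_zero_of_map_eq_zero (hM : TFOne.IsTF1 X M) {G : X.Modules} (f : M ⟶ G) {η : X}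
    (hη : η ∈ genericPoints X) {m₁ : M.presheaf.stalk η} (h₁ : (stalkF X η).map f m₁ ≠ 0)
    {m : M.presheaf.stalk η} (h : (stalkF X η).map f m = 0) : m = 0 := by
  by_contra hm
  obtain ⟨c, rfl⟩ := exists_smul_eq hM hη hm m₁
  refine h₁ ?_
  rw [stalkF_map_smul]
  exact (congrArg (fun z : G.presheaf.stalk η => c • z) h).trans (smul_zero c)

variable {Z : Set X} {G : X.Modules} {π : M ⟶ G}

omit [IsReduced X] in
theorem subsingleton_of_notMem (hG : TFOne.IsQuotOn X M Z G π) {η : X} (hη : η ∉ Z) :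
    Subsingleton (G.presheaf.stalk η) := by
  rw [← hG.2.2.2] at hη
  exact not_not.1 hη

omit [IsReduced X] in
theorem map_eq_zero_of_notMem (hG : TFOne.IsQuotOn X M Z G π) {η : X} (hη : η ∉ Z) {F : X.Modules} (f : F ⟶ G)
    (m : F.presheaf.stalk η) : (stalkF X η).map f m = 0 := by
  haveI := subsingleton_of_notMem hG hη
  exact Subsingleton.elim (α := G.presheaf.stalk η) _ _

/-- At a generic point of the subcurve the quotient map is injective. -/
theorem quot_injective (hM : TFOne.IsTF1 X M) (hG : TFOne.IsQuotOn X M Z G π) {η : X}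
    (hη : η ∈ genericPoints X) (hηZ : η ∈ Z) {m : M.presheaf.stalk η} (h : (stalkF X η).map π m = 0) : m = 0 := by
  haveI := hG.1
  have hs : η ∈ CohB1.support G := hG.2.2.2.symm ▸ hηZ
  obtain ⟨g, hg⟩ : ∃ g : G.presheaf.stalk η, g ≠ 0 := by
    by_contra! h0
    exact hs ⟨fun a b => (h0 a).trans (h0 b).symm⟩
  obtain ⟨m₁, rfl⟩ := (Groth.L21.Mod.epi_iff_stalk_surjective π).1 inferInstance η g
  exact eq_zero_of_map_eq_zero hM π hη hg h

end RankOne

end Groth.L15.TFCurve
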