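import Groth.Agent.L15.TFCurve.Limit
import Groth.Agent.L15.TFCurve.Setup

/-!
# The flat quotient of a tower of elementary modifications that split on the special fibre
-/

set_option autoImplicit false
set_option linter.style.haveILetI false
set_option backward.isDefEq.respectTransparency false
set_option backward.isDefEq.respectTransparency.types false

universe u

open CategoryTheory CategoryTheory.Limits AlgebraicGeometry TopologicalSpace Opposite

noncomputable section

namespace Groth.L15.TFCurve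

open Groth.L21.Mod (stalkF)

variable {R : Type u} [CommRing R] {X : Scheme.{u}}
  {f : X ⟶ Spec (CommRingCat.of R)} {Xs : Scheme.{u}} {i : Xs ⟶ X} [IsClosedImmersion i]

omit [CommRing R] in
/-- The composite to the direct image, at a point of the closed subscheme. -/
theorem gd_stalk {I : X.Modules} {G : Xs.Modules} (π : (Scheme.Modules.pullback i).obj I ⟶ G) (x : Xs)
    (m : I.presheaf.stalk (i x)) :
    Groth.L17.ClosedPush.c₀ i G x (st ((Scheme.Modules.pullbackPushforwardAdjunction i).unit.app I ≫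
      (Scheme.Modules.pushforward i).map π) (i x) m) = st π x (uStalk i I x m) := by
  rw [st_comp]
  exact c₀_push_map i π x _

omit [CommRing R] in
theorem st_pullback {A B : X.Modules} (g : A ⟶ B) (x : Xs) (n : A.presheaf.stalk (i x)) :
    st ((Scheme.Modules.pullback i).map g) x (uStalk i A x n) = uStalk i B x (st g (i x) n) :=
  pullback_map_uStalk i g x n

omit [CommRing R] in
theorem exists_of_gd_eq_zero {I : X.Modules} {G : Xs.Modules} (π : (Scheme.Modules.pullback i).obj I ⟶ G)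
    {J : X.Modules} (hJ : J = kernel ((Scheme.Modules.pullbackPushforwardAdjunction i).unit.app I ≫
      (Scheme.Modules.pushforward i).map π)) (x : Xs) (m : I.presheaf.stalk (i x)) :
    st π x (uStalk i I x m) = 0 ↔ ∃ a, st (eqToHom hJ ≫ kernel.ι _) (i x) a = m := by
  subst hJ
  rw [eqToHom_refl, Category.id_comp, ← st_kernel, ← gd_stalk]
  exact ⟨fun h => (Groth.L17.ClosedPush.c₀_bijective i G x).1 (h.trans (map_zero _).symm),
    fun h => by rw [h]; exact map_zero _⟩

/-- A step of the tower. -/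
def step (i : Xs ⟶ X) {In : ℕ → X.Modules} {G : ℕ → Xs.Modules}
    (π : ∀ n, (Scheme.Modules.pullback i).obj (In n) ⟶ G n)
    (hstep : ∀ n, In (n + 1) = kernel ((Scheme.Modules.pullbackPushforwardAdjunction i).unit.app (In n) ≫
      (Scheme.Modules.pushforward i).map (π n))) (n : ℕ) : In (n + 1) ⟶ In n :=
  eqToHom (hstep n) ≫ kernel.ι _

variable [IsDomain R] [IsDiscreteValuationRing R] [IsProper f]
  [Xs.Over (Spec (CommRingCat.of (IsLocalRing.ResidueField R)))]
  (hsq : IsPullback i (Xs ↘ Spec (CommRingCat.of (IsLocalRing.ResidueField R))) f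
    (Spec.map (CommRingCat.ofHom (IsLocalRing.residue R))))

set_option maxHeartbeats 1000000 in
include hsq in
/-- A chain split on the special fibre comes from a flat quotient. -/
theorem exists_flat_quotient_of_chain [IsAdicComplete (IsLocalRing.maximalIdeal R) R] [IsReduced Xs]
    (In : ℕ → X.Modules) (ι : ∀ n, In (n + 1) ⟶ In n) (hmono : ∀ n, Mono (ι n)) (hcoh : ∀ n, Coh.IsCoh (In n))
    (hIf : FlatMod.IsFlatOver f (In 0)) (hM : ∀ n, TFOne.IsTF1 Xs ((Scheme.Modules.pullback i).obj (In n)))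
    (Y Y' : Set Xs) (G G' : ℕ → Xs.Modules)
    (π : ∀ n : ℕ, ((Scheme.Modules.pullback i).obj (In n)) ⟶ G n)
    (π' : ∀ n : ℕ, ((Scheme.Modules.pullback i).obj (In n)) ⟶ G' n)
    (hG : ∀ n : ℕ, TFOne.IsQuotOn Xs ((Scheme.Modules.pullback i).obj (In n)) Y (G n) (π n))
    (hG' : ∀ n : ℕ, TFOne.IsQuotOn Xs ((Scheme.Modules.pullback i).obj (In n)) Y' (G' n) (π' n))
    (hπι : ∀ (n : ℕ) (x : Xs) (m : (In n).presheaf.stalk (i x)),
      st (π n) x (uStalk i (In n) x m) = 0 ↔ ∃ a, st (ι n) (i x) a = m)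
    (hoff : ∀ (n : ℕ) (y : X), y ∉ Set.range i → ∀ m : (In n).presheaf.stalk y, ∃ a, st (ι n) y a = m)
    (hdec : ∀ n : ℕ, IsIso (biprod.lift (π n) (π' n))) :
    ∃ (F : X.Modules) (p : In 0 ⟶ F), Epi p ∧ Coh.IsCoh F ∧ FlatMod.IsFlatOver f F ∧
      ∃ e : (Scheme.Modules.pullback i).obj F ≅ G 0, (Scheme.Modules.pullback i).map p ≫ e.hom = π 0 := by
  haveI : IsLocallyNoetherian X := LocallyOfFiniteType.isLocallyNoetherian f
  haveI := isProper_special hsq
  haveI : IsLocallyNoetherian Xs :=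
    LocallyOfFiniteType.isLocallyNoetherian (Xs ↘ Spec (CommRingCat.of (IsLocalRing.ResidueField R)))
  obtain ⟨ϖ, hϖ⟩ := IsDiscreteValuationRing.exists_irreducible R
  haveI : ∀ n, Coh.IsQCoh (G n) := fun n => (hG n).2.1.1
  haveI : ∀ n, Coh.IsQCoh (G' n) := fun n => (hG' n).2.1.1
  have hu0 : ∀ (n : ℕ) (x : Xs) (m : (In n).presheaf.stalk (i x)),
      uStalk i (In n) x m = 0 ↔ ∃ m', (tGerm f ϖ (i x) • m' : (In n).presheaf.stalk (i x)) = m :=
    fun n x m => uStalk_eq_zero_iff_smul i f _ hsq hϖ (In n) x m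
  -- the decomposition on stalks
  have hjoint : ∀ (n : ℕ) (x : Xs) (z : ((Scheme.Modules.pullback i).obj (In n)).presheaf.stalk x),
      st (π n) x z = 0 → st (π' n) x z = 0 → z = 0 := by
    intro n x z h h'
    haveI := hdec n
    refine st_injective (biprod.lift (π n) (π' n)) x ?_
    rw [map_zero, show biprod.lift (π n) (π' n) = π n ≫ biprod.inl + π' n ≫ biprod.inr from biprod.lift_eq,
      show st (π n ≫ biprod.inl + π' n ≫ biprod.inr) x z =
        st (π n ≫ biprod.inl) x z + st (π' n ≫ biprod.inr) x z by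
          rw [st_apply, Functor.map_add]; rfl, st_comp, st_comp, h, h', map_zero, map_zero, add_zero]
  have hsplit : ∀ (n : ℕ) (x : Xs) (v : (G' n).presheaf.stalk x),
      ∃ z, st (π n) x z = 0 ∧ st (π' n) x z = v := by
    intro n x v
    haveI := hdec n
    refine ⟨st (biprod.inr ≫ inv (biprod.lift (π n) (π' n))) x v, ?_, ?_⟩
    · rw [← st_comp, show (biprod.inr ≫ inv (biprod.lift (π n) (π' n))) ≫ π n = 0 by
        rw [Category.assoc, show inv (biprod.lift (π n) (π' n)) ≫ π n = biprod.fst by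
          rw [IsIso.inv_comp_eq, biprod.lift_fst], biprod.inr_fst]]
      exact st_zero x v
    · rw [← st_comp, show (biprod.inr ≫ inv (biprod.lift (π n) (π' n))) ≫ π' n = 𝟙 _ by
        rw [Category.assoc, show inv (biprod.lift (π n) (π' n)) ≫ π' n = biprod.snd by
          rw [IsIso.inv_comp_eq, biprod.lift_snd], biprod.inr_snd]]
      exact st_id _ x v
  let Q : ∀ n, (Scheme.Modules.pullback i).obj (In (n + 1)) ⟶ G' n := fun n =>
    (Scheme.Modules.pullback i).map (ι n) ≫ π' n
  have hQepi : ∀ n, Epi (Q n) := fun n => (Groth.L21.Mod.epi_iff_stalk_surjective _).2 fun x v => by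
    obtain ⟨z, hz, hz'⟩ := hsplit n x v
    obtain ⟨m, rfl⟩ := uStalk_surjective i (In n) x z
    obtain ⟨a, rfl⟩ := (hπι n x m).1 hz
    refine ⟨uStalk i (In (n + 1)) x a, ?_⟩
    show st (Q n) x _ = v
    rw [st_comp, st_pullback]
    exact hz'
  choose eG heG using fun n => quot_unique (hM (n + 1)) (hG' (n + 1))
    (⟨hQepi n, (hG' n).2.1, (hG' n).2.2.1, (hG' n).2.2.2⟩ :
      TFOne.IsQuotOn Xs ((Scheme.Modules.pullback i).obj (In (n + 1))) Y' (G' n) (Q n))
  have hQ : ∀ (n : ℕ) (x : Xs) (a : (In (n + 1)).presheaf.stalk (i x)),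
      st (π' n) x (uStalk i (In n) x (st (ι n) (i x) a)) =
        st (eG n).hom x (st (π' (n + 1)) x (uStalk i (In (n + 1)) x a)) := fun n x a => by
    rw [← st_pullback, ← st_comp, ← st_comp, heG n]
  have hchain : ∀ (n : ℕ) (x : Xs) (a : (In n).presheaf.stalk (i x)),
      st (π' n) x (uStalk i (In n) x a) = 0 ↔ st (π' 0) x (uStalk i (In 0) x (st (cmp ι n) (i x) a)) = 0 := by
    intro n
    induction n with
    | zero => intro x a; rw [show cmp ι 0 = 𝟙 _ from rfl, st_id]
    | succ n ih =>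
      intro x a
      rw [show cmp ι (n + 1) = ι n ≫ cmp ι n from rfl, st_comp, ← ih, hQ]
      exact ⟨fun h => by rw [h, map_zero], fun h => st_injective (eG n).hom x (h.trans (map_zero _).symm)⟩
  have hfst : ∀ (n : ℕ) (x : Xs) (a : (In (n + 1)).presheaf.stalk (i x)),
      st (π 0) x (uStalk i (In 0) x (st (cmp ι (n + 1)) (i x) a)) = 0 := by
    intro n
    induction n with
    | zero =>
      intro x a
      rw [show cmp ι (0 + 1) = ι 0 ≫ 𝟙 _ from rfl, Category.comp_id]
      exact (hπι 0 x _).2 ⟨a, rfl⟩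
    | succ n ih =>
      intro x a
      rw [show cmp ι (n + 1 + 1) = ι (n + 1) ≫ cmp ι (n + 1) from rfl, st_comp]
      exact ih x _
  have hkey : ∀ (n : ℕ) (x : Xs) (a : (In (n + 1)).presheaf.stalk (i x)),
      st (π' (n + 1)) x (uStalk i (In (n + 1)) x a) = 0 ↔ uStalk i (In 0) x (st (cmp ι (n + 1)) (i x) a) = 0 :=
    fun n x a => (hchain (n + 1) x a).trans
      ⟨fun h => hjoint 0 x _ (hfst n x a) h, fun h => by rw [h, map_zero]⟩
  -- the hypotheses of the limit
  have hmul : ∀ n (y : X) (w : (In n).presheaf.stalk y), ∃ a,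
      st (ι n) y a = (tGerm f ϖ y • w : (In n).presheaf.stalk y) := by
    intro n y w
    by_cases hy : y ∈ Set.range i
    · obtain ⟨x, rfl⟩ := hy
      refine (hπι n x _).1 ?_
      rw [(hu0 n x _).2 ⟨w, rfl⟩, map_zero]
    · exact hoff n y hy _
  have hdiv : ∀ n (y : X) (a : (In (n + 1)).presheaf.stalk y) (x : (In 0).presheaf.stalk y),
      st (cmp ι (n + 1)) y a = (tGerm f ϖ y • x : (In 0).presheaf.stalk y) → ∃ w, st (cmp ι n) y w = x := by
    intro n y a z h
    obtain ⟨w, hw⟩ : ∃ w, (tGerm f ϖ y • w : (In n).presheaf.stalk y) = st (ι n) y a := by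
      by_cases hy : y ∈ Set.range i
      · obtain ⟨x, rfl⟩ := hy
        refine (hu0 n x _).1 (hjoint n x _ ((hπι n x _).2 ⟨a, rfl⟩) ?_)
        rw [hQ, (hkey n x a).2 ((hu0 0 x _).2 ⟨z, h.symm⟩), map_zero]
      · obtain ⟨v, hv⟩ := isUnit_tGerm f hϖ i _ hsq hy
        exact ⟨((v⁻¹ : (X.presheaf.stalk y)ˣ) : X.presheaf.stalk y) • st (ι n) y a, by
          rw [← hv, smul_smul, Units.mul_inv, one_smul]⟩
    refine ⟨w, tGerm_smul_injective f hϖ hIf y ?_⟩
    show tGerm f ϖ y • st (cmp ι n) y w = tGerm f ϖ y • z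
    rw [← map_smul, hw, ← h, ← st_comp]
    rfl
  have hgen : ∀ n (y : X) (a : (In (n + 1)).presheaf.stalk y), ∃ (b : (In (n + 2)).presheaf.stalk y)
      (x : (In 0).presheaf.stalk y), st (cmp ι (n + 1)) y a =
        (st (cmp ι (n + 2)) y b + tGerm f ϖ y • x : (In 0).presheaf.stalk y) := by
    intro n y a
    by_cases hy : y ∈ Set.range i
    · obtain ⟨x, rfl⟩ := hy
      haveI := (hG' (n + 1 + 1)).1
      obtain ⟨z, hz⟩ := st_surjective (π' (n + 1 + 1)) x
        (st (eG (n + 1)).inv x (st (π' (n + 1)) x (uStalk i (In (n + 1)) x a)))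
      obtain ⟨b, rfl⟩ := uStalk_surjective i (In (n + 1 + 1)) x z
      have h0 : st (π' (n + 1)) x (uStalk i (In (n + 1)) x (a - st (ι (n + 1)) (i x) b)) = 0 := by
        rw [map_sub, map_sub, hQ, hz, ← st_comp, Iso.inv_hom_id, st_id, sub_self]
      obtain ⟨m, hm⟩ := (hu0 0 x _).1 ((hkey n x _).1 h0)
      refine ⟨b, m, ?_⟩
      rw [hm, map_sub, show cmp ι (n + 2) = ι (n + 1) ≫ cmp ι (n + 1) from rfl, st_comp]
      exact (add_sub_cancel _ _).symm
    · obtain ⟨v, hv⟩ := isUnit_tGerm f hϖ i _ hsq hy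
      refine ⟨0, ((v⁻¹ : (X.presheaf.stalk y)ˣ) : X.presheaf.stalk y) • st (cmp ι (n + 1)) y a, ?_⟩
      rw [map_zero, zero_add, ← hv, smul_smul, Units.mul_inv, one_smul]
  obtain ⟨F, p, hp, hFc, hF, hq⟩ := exists_limit_quotient f hϖ In ι hmono hcoh hmul hgen hdiv
  refine ⟨F, p, hp, hFc, hF, ?_⟩
  -- the special fibre
  let g0 := (Scheme.Modules.pullbackPushforwardAdjunction i).unit.app (In 0) ≫
    (Scheme.Modules.pushforward i).map (π 0)
  have hp0 : kernel.ι p ≫ g0 = 0 := hom_zero_of_st _ fun y c => by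
    rw [st_comp]
    obtain ⟨b, hb⟩ := (hq y (st (kernel.ι p) y c)).1 ⟨0, by
      rw [smul_zero]; exact (stalk_comp_eq_zero (kernel.condition p) y c).symm⟩
    rw [← hb]
    by_cases hy : y ∈ Set.range i
    · obtain ⟨x, rfl⟩ := hy
      refine (Groth.L17.ClosedPush.c₀_bijective i (G 0) x).1 ((gd_stalk (π 0) x _).trans ?_)
      rw [(hπι 0 x _).2 ⟨b, rfl⟩]
      exact (map_zero _).symm
    · exact @Subsingleton.elim _ (Groth.L17.ClosedPush.subsingleton_stalk_push i (G 0) hy) _ _
  let q : F ⟶ (Scheme.Modules.pushforward i).obj (G 0) := Abelian.epiDesc p g0 hp0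
  have hpq : p ≫ q = g0 := Abelian.comp_epiDesc p g0 hp0
  let q' : (Scheme.Modules.pullback i).obj F ⟶ G 0 :=
    ((Scheme.Modules.pullbackPushforwardAdjunction i).homEquiv F (G 0)).symm q
  have hpq' : (Scheme.Modules.pullback i).map p ≫ q' = π 0 := by
    rw [← Adjunction.homEquiv_naturality_left_symm, hpq, Equiv.symm_apply_eq, Adjunction.homEquiv_unit]
  haveI : Epi q' := by
    haveI : Epi ((Scheme.Modules.pullback i).map p ≫ q') := by rw [hpq']; exact (hG 0).1
    exact epi_of_epi ((Scheme.Modules.pullback i).map p) q'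
  haveI : Mono q' := by
    rw [Groth.L21.Mod.mono_iff_stalk_injective]
    intro x
    refine (injective_iff_map_eq_zero (st q' x)).2 fun z hz => ?_
    obtain ⟨m, rfl⟩ := uStalk_surjective i F x z
    obtain ⟨a, rfl⟩ := st_surjective p (i x) m
    rw [← st_pullback, ← st_comp, hpq'] at hz
    obtain ⟨m', hm'⟩ := (hq (i x) a).2 ((hπι 0 x a).1 hz)
    exact (uStalk_eq_zero_iff_smul i f _ hsq hϖ F x _).2 ⟨m', hm'⟩
  haveI : IsIso q' := isIso_of_mono_of_epi q'
  exact ⟨asIso q', hpq'⟩


set_option maxHeartbeats 1000000 in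
include hsq in
/-- A tower of modifications split on the special fibre comes from a flat quotient. -/
theorem exists_flat_quotient_of_tower [IsAdicComplete (IsLocalRing.maximalIdeal R) R] [IsReduced Xs]
    (In : ℕ → X.Modules) (hIc : Coh.IsCoh (In 0)) (hIf : FlatMod.IsFlatOver f (In 0))
    (hIs : TFOne.IsTF1 Xs ((Scheme.Modules.pullback i).obj (In 0))) (Y Y' : Set Xs) (G G' : ℕ → Xs.Modules)
    (π : ∀ n : ℕ, ((Scheme.Modules.pullback i).obj (In n)) ⟶ G n)
    (π' : ∀ n : ℕ, ((Scheme.Modules.pullback i).obj (In n)) ⟶ G' n)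
    (hG : ∀ n : ℕ, TFOne.IsQuotOn Xs ((Scheme.Modules.pullback i).obj (In n)) Y (G n) (π n))
    (hG' : ∀ n : ℕ, TFOne.IsQuotOn Xs ((Scheme.Modules.pullback i).obj (In n)) Y' (G' n) (π' n))
    (hstep : ∀ n : ℕ, In (n + 1) = kernel ((Scheme.Modules.pullbackPushforwardAdjunction i).unit.app (In n) ≫
      (Scheme.Modules.pushforward i).map (π n)))
    (hdec : ∀ n : ℕ, IsIso (biprod.lift (π n) (π' n))) :
    ∃ (F : X.Modules) (p : In 0 ⟶ F), Epi p ∧ FlatMod.IsFlatOver f F ∧
      ∃ e : (Scheme.Modules.pullback i).obj F ≅ G 0, (Scheme.Modules.pullback i).map p ≫ e.hom = π 0 := by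
  haveI : IsLocallyNoetherian X := LocallyOfFiniteType.isLocallyNoetherian f
  haveI := isProper_special hsq
  haveI : IsLocallyNoetherian Xs :=
    LocallyOfFiniteType.isLocallyNoetherian (Xs ↘ Spec (CommRingCat.of (IsLocalRing.ResidueField R)))
  obtain ⟨ϖ, hϖ⟩ := IsDiscreteValuationRing.exists_irreducible R
  haveI : ∀ n, Coh.IsQCoh (G n) := fun n => (hG n).2.1.1
  haveI : ∀ n, Coh.IsQCoh (G' n) := fun n => (hG' n).2.1.1
  haveI : ∀ n, Coh.IsQCoh ((Scheme.Modules.pushforward i).obj (G n)) := fun n =>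
    Groth.L16.QcqsPush.isQCoh_push (G n) i
  let ι : ∀ n, In (n + 1) ⟶ In n := step i π hstep
  have hmono : ∀ n, Mono (ι n) := fun n => by show Mono (eqToHom (hstep n) ≫ kernel.ι _); infer_instance
  have hcoh : ∀ n, Coh.IsCoh (In n) := by
    intro n
    induction n with
    | zero => exact hIc
    | succ n ih => rw [hstep n]; exact Groth.L16.CohSupport.isCoh_kernel ih _
  have hflat : ∀ n, FlatMod.IsFlatOver f (In n) := by
    intro n
    induction n with
    | zero => exact hIf
    | succ n ih =>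
      refine isFlatOver_of_injective f hϖ fun y a a' h => ?_
      haveI := hmono n
      refine st_injective (ι n) y (tGerm_smul_injective f hϖ ih y ?_)
      exact (map_smul (st (ι n) y) _ a).symm.trans ((congrArg (st (ι n) y) h).trans (map_smul (st (ι n) y) _ a'))
  have hM : ∀ n, TFOne.IsTF1 Xs ((Scheme.Modules.pullback i).obj (In n)) := by
    intro n
    induction n with
    | zero => exact hIs
    | succ n ih =>
      obtain ⟨D⟩ := nonempty_modif' hsq (hcoh n) (hflat n) (hG n) (hstep n)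
      exact D.isTF1 ih (hG n)
  have hπι : ∀ (n : ℕ) (x : Xs) (m : (In n).presheaf.stalk (i x)),
      st (π n) x (uStalk i (In n) x m) = 0 ↔ ∃ a, st (ι n) (i x) a = m :=
    fun n x m => exists_of_gd_eq_zero (π n) (hstep n) x m
  have hoff : ∀ (n : ℕ) (y : X), y ∉ Set.range i → ∀ m : (In n).presheaf.stalk y, ∃ a, st (ι n) y a = m := by
    intro n y hy m
    let g := (Scheme.Modules.pullbackPushforwardAdjunction i).unit.app (In n) ≫
      (Scheme.Modules.pushforward i).map (π n)
    obtain ⟨c, hc⟩ := (st_kernel g y).1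
      (@Subsingleton.elim _ (Groth.L17.ClosedPush.subsingleton_stalk_push i (G n) hy) (st g y m) 0)
    refine ⟨st (eqToHom (hstep n).symm) y c, ?_⟩
    rw [← st_comp]
    show st (eqToHom _ ≫ eqToHom (hstep n) ≫ kernel.ι _) y c = _
    rw [eqToHom_trans_assoc, eqToHom_refl, Category.id_comp]
    exact hc
  obtain ⟨F, p, hp, -, hF, he⟩ := exists_flat_quotient_of_chain hsq In ι hmono hcoh hIf hM Y Y' G G' π π' hG hG' hπι hoff hdec
  exact ⟨F, p, hp, hF, he⟩

end Groth.L15.TFCurve
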