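import Groth.Agent.L15.TFCurve.Beta
import Groth.Agent.L15.TFCurve.Endo
import Mathlib.CategoryTheory.Abelian.Images
import Mathlib.Algebra.Homology.ShortComplex.ShortExact

/-!
# An elementary modification of a rank one module along a subcurve, on the curve itself
-/

set_option autoImplicit false
set_option linter.style.haveILetI false
set_option backward.isDefEq.respectTransparency false
set_option backward.isDefEq.respectTransparency.types false

universe u

open CategoryTheory CategoryTheory.Limits AlgebraicGeometry TopologicalSpace Opposite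

noncomputable section

namespace Groth.L15.TFCurve

open Groth.L21.Mod (stalkF)
open Groth.L21.RR (SuppClosed)

variable {X : Scheme.{u}}

theorem stalk_surjective {A B : X.Modules} (f : A ⟶ B) [Epi f] (x : X) : Function.Surjective ((stalkF X x).map f) :=
  (Groth.L21.Mod.epi_iff_stalk_surjective f).1 inferInstance x

theorem stalk_injective {A B : X.Modules} (f : A ⟶ B) [Mono f] (x : X) : Function.Injective ((stalkF X x).map f) :=
  (Groth.L21.Mod.mono_iff_stalk_injective f).1 inferInstance x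

theorem stalk_exact {A B C : X.Modules} {f : A ⟶ B} {g : B ⟶ C} {w : f ≫ g = 0} (h : (ShortComplex.mk f g w).Exact)
    (x : X) {b : B.presheaf.stalk x} (hb : (stalkF X x).map g b = 0) : ∃ a, (stalkF X x).map f a = b :=
  (ShortComplex.ab_exact_iff _).1 (h.map (stalkF X x)) b hb

theorem stalk_comp_eq_zero {A B C : X.Modules} {f : A ⟶ B} {g : B ⟶ C} (w : f ≫ g = 0) (x : X)
    (a : A.presheaf.stalk x) : (stalkF X x).map g ((stalkF X x).map f a) = 0 := by
  rw [← stalkF_map_comp, w]; exact stalkF_map_zero x a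

/-- The support of a torsion-free coherent module is read off at the generic points. -/
theorem support_eq_of_generic [IsReduced X] [IsLocallyNoetherian X] {G : X.Modules} (hG : Coh.IsCoh G)
    (htf : TorSh.IsTorsionFree G) {Z : Set X} (hZ : IsClosed Z) (hF : IsFullSet Z)
    (h : ∀ η ∈ genericPoints X, η ∈ CohB1.support G ↔ η ∈ Z) : CohB1.support G = Z := by
  haveI : Coh.IsQCoh G := hG.1
  refine subset_antisymm (fun x hx => ?_) fun x hx => ?_
  · obtain ⟨η, hη, hηx, hs⟩ := exists_genericPoint_of_mem_support G htf hx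
    exact hηx.mem_closed hZ ((h η hη).1 hs)
  · obtain ⟨η, hη, hηZ, hηx⟩ := hF x hx
    exact hηx.mem_closed (Groth.L16.CohSupport.isClosed_support G hG.2) ((h η hη).2 hηZ)

/-- Additive invariants of coherent modules. -/
structure IsAdditive (μ : X.Modules → ℤ) : Prop where
  iso : ∀ {A B : X.Modules}, (A ≅ B) → μ A = μ B
  add : ∀ {S : ShortComplex X.Modules}, S.ShortExact → Coh.IsCoh S.X₁ → Coh.IsCoh S.X₂ → Coh.IsCoh S.X₃ →
    μ S.X₂ = μ S.X₁ + μ S.X₃

/-- The fibre of an elementary modification: `0 → F_Y → M' → M → F_Y → 0`. -/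
structure Modif {M GY : X.Modules} (πY : M ⟶ GY) (M' : X.Modules) where
  a : GY ⟶ M'
  b : M' ⟶ M
  mono_a : Mono a
  w : a ≫ b = 0
  exact_a : (ShortComplex.mk a b w).Exact
  wπ : b ≫ πY = 0
  exact_b : (ShortComplex.mk b πY wπ).Exact
  coh : Coh.IsCoh M'

namespace Modif

variable {M GY M' : X.Modules} {πY : M ⟶ GY} (D : Modif πY M')

/-- The map to the kernel. -/
def toKer : M' ⟶ kernel πY := kernel.lift πY D.b D.wπ

theorem epi_toKer : Epi D.toKer := D.exact_b.epi_kernelLift

theorem toKer_ι : D.toKer ≫ kernel.ι πY = D.b := kernel.lift_ι _ _ _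

theorem a_toKer : D.a ≫ D.toKer = 0 := by
  rw [← cancel_mono (kernel.ι πY), Category.assoc, D.toKer_ι, D.w, zero_comp]

theorem shortExact : (ShortComplex.mk D.a D.toKer D.a_toKer).ShortExact := by
  haveI := D.mono_a
  haveI := D.epi_toKer
  refine ShortComplex.ShortExact.mk ((ShortComplex.exact_iff_of_epi_of_isIso_of_mono
    (S₁ := ShortComplex.mk D.a D.toKer D.a_toKer) (S₂ := ShortComplex.mk D.a D.b D.w)
    { τ₁ := 𝟙 _, τ₂ := 𝟙 _, τ₃ := kernel.ι πY
      comm₁₂ := by simp
      comm₂₃ := by simpa using D.toKer_ι.symm }).2 D.exact_a)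

section

variable [IsReduced X] [IsLocallyNoetherian X] (hM : TFOne.IsTF1 X M) {Y : Set X}
  (hGY : TFOne.IsQuotOn X M Y GY πY)
include D hM hGY

theorem b_eq_zero_of_mem {η : X} (hη : η ∈ genericPoints X) (hy : η ∈ Y) (m : M'.presheaf.stalk η) :
    (stalkF X η).map D.b m = 0 :=
  quot_injective hM hGY hη hy (stalk_comp_eq_zero D.wπ η m)

omit D [IsLocallyNoetherian X] in
theorem ker_subsingleton_of_mem {η : X} (hη : η ∈ genericPoints X) (hy : η ∈ Y) :
    Subsingleton ((kernel πY).presheaf.stalk η) := subsingleton_of_forall_eq 0 fun z =>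
  stalk_injective (kernel.ι πY) η ((quot_injective hM hGY hη hy (stalk_comp_eq_zero (kernel.condition πY) η z)).trans
    (map_zero _).symm)

theorem isTorsionFree : TorSh.IsTorsionFree M' := fun x => by
  haveI := hM.2.1 x
  haveI := hGY.2.2.1 x
  haveI := D.mono_a
  refine ⟨fun r hr m m' h => ?_⟩
  let d : M'.presheaf.stalk x := m - m'
  have hrd : (r • d : M'.presheaf.stalk x) = 0 := (smul_sub r m m').trans (sub_eq_zero.2 h)
  have hbd : (stalkF X x).map D.b d = 0 := by
    refine (Module.IsTorsionFree.isSMulRegular (M := M.presheaf.stalk x) hr) ?_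
    refine Eq.trans ?_ (smul_zero r).symm
    exact (stalkF_map_smul D.b x r d).symm.trans ((congrArg ((stalkF X x).map D.b) hrd).trans (map_zero _))
  obtain ⟨g, hg⟩ := stalk_exact D.exact_a x hbd
  have hrg : (r • (show GY.presheaf.stalk x from g) : GY.presheaf.stalk x) = 0 := by
    refine stalk_injective D.a x (Eq.trans ?_ (map_zero _).symm)
    exact (stalkF_map_smul D.a x r g).trans ((congrArg (fun z : M'.presheaf.stalk x => r • z) hg).trans hrd)
  have hg0 : g = 0 := (Module.IsTorsionFree.isSMulRegular (M := GY.presheaf.stalk x) hr) (hrg.trans (smul_zero r).symm)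
  exact sub_eq_zero.1 (hg.symm.trans ((congrArg ((stalkF X x).map D.a) hg0).trans (map_zero _)))

omit [IsLocallyNoetherian X] in
theorem isRkOne : TFOne.IsRkOne X M' := fun η hη => by
  haveI := hGY.1
  haveI := D.mono_a
  obtain ⟨e⟩ := hM.2.2 η hη
  by_cases hy : η ∈ Y
  · let p : M.presheaf.stalk η →ₗ[X.presheaf.stalk η] M'.presheaf.stalk η :=
      (((DerSch.stalkFunctor X η).map (πY ≫ D.a)).hom)
    refine ⟨(LinearEquiv.ofBijective p ⟨?_, ?_⟩).symm ≪≫ₗ e⟩
    · refine (injective_iff_map_eq_zero p).2 fun m hm => quot_injective hM hGY hη hy ?_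
      exact stalk_injective D.a η ((stalkF_map_comp πY D.a η m).symm.trans hm |>.trans (map_zero _).symm)
    · intro m'
      obtain ⟨g, rfl⟩ := stalk_exact D.exact_a η
        (quot_injective hM hGY hη hy (stalk_comp_eq_zero D.wπ η m'))
      obtain ⟨m, rfl⟩ := stalk_surjective πY η g
      exact ⟨m, stalkF_map_comp πY D.a η m⟩
  · let p : M'.presheaf.stalk η →ₗ[X.presheaf.stalk η] M.presheaf.stalk η :=
      (((DerSch.stalkFunctor X η).map D.b).hom)
    refine ⟨LinearEquiv.ofBijective p ⟨?_, ?_⟩ ≪≫ₗ e⟩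
    · refine (injective_iff_map_eq_zero p).2 fun m hm => ?_
      obtain ⟨g, rfl⟩ := stalk_exact D.exact_a η hm
      exact (congrArg ((stalkF X η).map D.a) (@Subsingleton.elim _ (subsingleton_of_notMem hGY hy) g 0)).trans (map_zero _)
    · intro m
      exact stalk_exact D.exact_b η (@Subsingleton.elim _ (subsingleton_of_notMem hGY hy) _ _)

theorem isTF1 : TFOne.IsTF1 X M' := ⟨D.coh, D.isTorsionFree hM hGY, D.isRkOne hM hGY⟩

theorem isCoh_ker : Coh.IsCoh (kernel πY) :=
  haveI : Coh.IsQCoh GY := hGY.2.1.1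
  Groth.L16.CohSupport.isCoh_kernel hM.1 πY

theorem additive_modif {μ : X.Modules → ℤ} (hμ : IsAdditive μ) :
    μ M' = μ M := by
  haveI := hGY.1
  have h1 := hμ.add D.shortExact hGY.2.1 D.coh (D.isCoh_ker hM hGY)
  have h2 := hμ.add (ShortComplex.ShortExact.mk (ShortComplex.exact_kernel πY) :
    (ShortComplex.mk (kernel.ι πY) πY (kernel.condition πY)).ShortExact) (D.isCoh_ker hM hGY) hM.1 hGY.2.1
  dsimp only at h1 h2
  omega

/-- The kernel is the quotient of the modification on the complementary components. -/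
theorem isQuotOn_toKer {Y' : Set X} (hY'c : IsClosed Y') (hY'F : IsFullSet Y')
    (hY' : ∀ η ∈ genericPoints X, η ∈ Y' ↔ η ∉ Y) :
    TFOne.IsQuotOn X M' Y' (kernel πY) D.toKer := by
  have htf := isTorsionFree_sub (kernel.ι πY) hM.2.1
  refine ⟨D.epi_toKer, D.isCoh_ker hM hGY, htf, support_eq_of_generic (D.isCoh_ker hM hGY) htf hY'c hY'F fun η hη => ?_⟩
  rw [hY' η hη]
  refine ⟨fun hs hy => hs (ker_subsingleton_of_mem hM hGY hη hy), fun hy hsub => ?_⟩
  obtain ⟨m, hm⟩ := exists_ne_zero hM hη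
  obtain ⟨z, rfl⟩ := stalk_exact (ShortComplex.exact_kernel πY) η (b := m)
    (@Subsingleton.elim _ (subsingleton_of_notMem hGY hy) _ _)
  exact hm ((congrArg ((stalkF X η).map (kernel.ι πY)) (@Subsingleton.elim _ hsub z 0)).trans (map_zero _))

/-- The basic decomposition of a quotient of the modification. -/
theorem exists_decomp (hpure : ∀ C ∈ irreducibleComponents (X : Type u), topologicalKrullDim C = 1)
    {Z W U V : Set X} {GZ GW GU : X.Modules} {π₁ : M' ⟶ GZ} {πW : M ⟶ GW} {πU : M ⟶ GU}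
    (hGZ : TFOne.IsQuotOn X M' Z GZ π₁) (hGW : TFOne.IsQuotOn X M W GW πW) (hGU : TFOne.IsQuotOn X M U GU πU)
    (hW : ∀ η ∈ genericPoints X, η ∈ W ↔ η ∈ Y ∧ η ∈ Z) (hWc : IsClosed W) (hWF : IsFullSet W)
    (hU : ∀ η ∈ genericPoints X, η ∈ U ↔ η ∈ Y ∨ η ∈ Z)
    (hV : ∀ η ∈ genericPoints X, η ∈ V ↔ η ∉ Y ∧ η ∈ Z) (hVc : IsClosed V) (hVF : IsFullSet V) :
    ∃ (K' T : X.Modules) (π : M' ⟶ K'), TFOne.IsQuotOn X M' V K' π ∧ Coh.IsCoh T ∧ SuppClosed T ∧
      ((∀ η ∈ genericPoints X, η ∉ Y → η ∈ Z) → IsZero T) ∧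
      ∀ {μ : X.Modules → ℤ}, IsAdditive μ → μ GZ = μ GW + μ K' + μ T ∧ μ GU = μ K' + μ GY := by
  have hM' := D.isTF1 hM hGY
  haveI := hGY.1
  haveI := hGU.1
  haveI := hGZ.1
  haveI := D.mono_a
  haveI := D.epi_toKer
  haveI : Coh.IsQCoh GY := hGY.2.1.1
  haveI : Coh.IsQCoh GU := hGU.2.1.1
  haveI : Coh.IsQCoh GZ := hGZ.2.1.1
  -- the projection `F_U → F_Y`
  obtain ⟨q, hq⟩ := quot_factor hM hGU hGY fun η hη hy => (hU η hη).2 (Or.inl hy)
  haveI : Epi (πU ≫ q) := by rw [hq]; infer_instance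
  haveI : Epi q := epi_of_epi πU q
  let u : kernel πY ⟶ kernel q := kernel.lift q (kernel.ι πY ≫ πU) (by rw [Category.assoc, hq, kernel.condition])
  have hu : u ≫ kernel.ι q = kernel.ι πY ≫ πU := kernel.lift_ι _ _ _
  haveI : Epi u := (Groth.L21.Mod.epi_iff_stalk_surjective u).2 fun x z => by
    obtain ⟨m, hm⟩ := stalk_surjective πU x ((stalkF X x).map (kernel.ι q) z)
    obtain ⟨w, hw⟩ := stalk_exact (ShortComplex.exact_kernel πY) x (b := m) (by
      rw [← hq, stalkF_map_comp, hm]
      exact stalk_comp_eq_zero (kernel.condition q) x z)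
    refine ⟨w, stalk_injective (kernel.ι q) x ?_⟩
    rw [← stalkF_map_comp, hu, stalkF_map_comp]
    exact (congrArg ((stalkF X x).map πU) hw).trans hm
  have hK'coh : Coh.IsCoh (kernel q) := Groth.L16.CohSupport.isCoh_kernel hGU.2.1 q
  haveI : Coh.IsQCoh (kernel q) := hK'coh.1
  have hK'tf : TorSh.IsTorsionFree (kernel q) := isTorsionFree_sub (kernel.ι q) hGU.2.2.1
  have hu_inj : ∀ η ∈ genericPoints X, η ∉ Y → η ∈ Z → ∀ w, (stalkF X η).map u w = 0 → w = 0 := fun η hη hy hz w hw => by
    refine stalk_injective (kernel.ι πY) η ((quot_injective hM hGU hη ((hU η hη).2 (Or.inr hz)) ?_).trans (map_zero _).symm)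
    rw [← stalkF_map_comp, ← hu, stalkF_map_comp, hw, map_zero]
  -- the image of `F_Y`
  let c := D.a ≫ π₁
  have hc_inj : ∀ η ∈ genericPoints X, η ∈ Z → ∀ g, (stalkF X η).map c g = 0 → g = 0 := fun η hη hz g hg => by
    refine stalk_injective D.a η ((quot_injective hM' hGZ hη hz ?_).trans (map_zero _).symm)
    rw [← stalkF_map_comp]
    exact hg
  have hA : Coh.IsCoh (Abelian.image c) := Groth.L16.CohSupport.isCoh_image hGY.2.1 c
  have hAtf : TorSh.IsTorsionFree (Abelian.image c) := isTorsionFree_sub (Abelian.image.ι c) hGZ.2.2.1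
  have hAq : TFOne.IsQuotOn X M W (Abelian.image c) (πY ≫ Abelian.factorThruImage c) := by
    refine ⟨inferInstance, hA, hAtf, support_eq_of_generic hA hAtf hWc hWF fun η hη => ?_⟩
    rw [hW η hη]
    refine ⟨fun hs => ⟨by_contra fun hy => hs (subsingleton_of_forall_eq 0 fun z => ?_),
      by_contra fun hz => hs (subsingleton_of_forall_eq 0 fun z => ?_)⟩, fun hyz hsub => ?_⟩
    · obtain ⟨g, rfl⟩ := stalk_surjective (Abelian.factorThruImage c) η z
      exact (congrArg _ (@Subsingleton.elim _ (subsingleton_of_notMem hGY hy) g 0)).trans (map_zero _)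
    · exact stalk_injective (Abelian.image.ι c) η (@Subsingleton.elim _ (subsingleton_of_notMem hGZ hz) _ _)
    · obtain ⟨m, hm⟩ := exists_ne_zero hM hη
      refine hm (quot_injective hM hGY hη hyz.1 (hc_inj η hη hyz.2 _ ?_))
      rw [← Abelian.image.fac c, stalkF_map_comp]
      exact (congrArg _ (@Subsingleton.elim _ hsub _ 0)).trans (map_zero _)
  obtain ⟨eA, -⟩ := quot_unique hM hAq hGW
  -- the cokernel
  obtain ⟨w, hw⟩ : ∃ w, D.toKer ≫ w = π₁ ≫ cokernel.π c :=
    ⟨D.shortExact.exact.desc (π₁ ≫ cokernel.π c) (show D.a ≫ π₁ ≫ cokernel.π c = 0 by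
      rw [← Category.assoc]; exact cokernel.condition c), D.shortExact.exact.g_desc _ _⟩
  haveI : Epi (D.toKer ≫ w) := by rw [hw]; infer_instance
  haveI : Epi w := epi_of_epi D.toKer w
  obtain ⟨z, hz⟩ : ∃ z, w ≫ z = u := exists_desc hK'tf w u fun η hη k hk => by
    by_cases hy : η ∈ Y
    · rw [@Subsingleton.elim _ (ker_subsingleton_of_mem hM hGY hη hy) k 0]; exact map_zero _
    by_cases hzZ : η ∈ Z
    · obtain ⟨m', rfl⟩ := stalk_surjective D.toKer η k
      rw [← stalkF_map_comp, hw, stalkF_map_comp] at hk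
      obtain ⟨g, hg⟩ := stalk_exact (ShortComplex.exact_cokernel c) η hk
      rw [show (stalkF X η).map π₁ m' = 0 from hg.symm.trans
        ((congrArg ((stalkF X η).map c) (@Subsingleton.elim _ (subsingleton_of_notMem hGY hy) g 0)).trans (map_zero _))] at hk
      rw [quot_injective hM' hGZ hη hzZ (m := m') (hg.symm.trans
        ((congrArg ((stalkF X η).map c) (@Subsingleton.elim _ (subsingleton_of_notMem hGY hy) g 0)).trans (map_zero _)))]
      simp only [map_zero]
    · refine stalk_injective (kernel.ι q) η (Eq.trans ?_ (map_zero _).symm)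
      exact @Subsingleton.elim _ (subsingleton_of_notMem hGU fun h => ((hU η hη).1 h).elim hy hzZ) _ _
  haveI : Epi z := by haveI : Epi (w ≫ z) := by rw [hz]; infer_instance
                      exact epi_of_epi w z
  have hK'q : TFOne.IsQuotOn X M' V (kernel q) (D.toKer ≫ u) := by
    refine ⟨inferInstance, hK'coh, hK'tf, support_eq_of_generic hK'coh hK'tf hVc hVF fun η hη => ?_⟩
    rw [hV η hη]
    refine ⟨fun hs => ⟨fun hy => hs (subsingleton_of_forall_eq 0 fun t => ?_),
      by_contra fun hzZ => hs (subsingleton_of_forall_eq 0 fun t => ?_)⟩, fun hyz hsub => ?_⟩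
    · obtain ⟨k, rfl⟩ := stalk_surjective u η t
      rw [@Subsingleton.elim _ (ker_subsingleton_of_mem hM hGY hη hy) k 0]; exact map_zero _
    · obtain ⟨k, rfl⟩ := stalk_surjective u η t
      by_cases hy : η ∈ Y
      · rw [@Subsingleton.elim _ (ker_subsingleton_of_mem hM hGY hη hy) k 0]; exact map_zero _
      · refine stalk_injective (kernel.ι q) η (Eq.trans ?_ (map_zero _).symm)
        exact @Subsingleton.elim _ (subsingleton_of_notMem hGU fun h => ((hU η hη).1 h).elim hy hzZ) _ _
    · obtain ⟨m, hm⟩ := exists_ne_zero hM hη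
      obtain ⟨k, rfl⟩ := stalk_exact (ShortComplex.exact_kernel πY) η (b := m)
        (@Subsingleton.elim _ (subsingleton_of_notMem hGY hyz.1) _ _)
      refine hm ?_
      rw [hu_inj η hη hyz.1 hyz.2 k (@Subsingleton.elim _ hsub _ _)]
      exact map_zero _
  have hBcoh : Coh.IsCoh (cokernel c) := (Groth.L16.CohKernel.isCoh_kernel_cokernel hGY.2.1 hGZ.2.1 c).2
  have hTcoh : Coh.IsCoh (kernel z) := Groth.L16.CohSupport.isCoh_kernel hBcoh z
  refine ⟨kernel q, kernel z, D.toKer ≫ u, hK'q, hTcoh, fun x hx => ?_, fun hall => ?_, fun {μ} hμ => ?_⟩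
  · have hη := mem_genericPoints_of_not_isClosed hpure hx
    refine subsingleton_of_forall_eq 0 fun t => stalk_injective (kernel.ι z) x (Eq.trans ?_ (map_zero _).symm)
    obtain ⟨k, hk⟩ := stalk_surjective w x ((stalkF X x).map (kernel.ι z) t)
    rw [← hk]
    by_cases hy : x ∈ Y
    · rw [@Subsingleton.elim _ (ker_subsingleton_of_mem hM hGY hη hy) k 0]; exact map_zero _
    by_cases hzZ : x ∈ Z
    · rw [hu_inj x hη hy hzZ k (by rw [← hz, stalkF_map_comp, hk]; exact stalk_comp_eq_zero (kernel.condition z) x t)]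
      exact map_zero _
    · obtain ⟨v, hv⟩ := stalk_surjective (cokernel.π c) x ((stalkF X x).map w k)
      rw [← hv, @Subsingleton.elim _ (subsingleton_of_notMem hGZ hzZ) v 0]
      exact map_zero _
  · haveI : Mono u := by
      haveI : Coh.IsQCoh (kernel πY) := (D.isCoh_ker hM hGY).1
      refine Preadditive.mono_of_kernel_zero (hom_eq_zero (isTorsionFree_sub (kernel.ι πY) hM.2.1) _ fun η hη t => ?_)
      by_cases hy : η ∈ Y
      · exact @Subsingleton.elim _ (ker_subsingleton_of_mem hM hGY hη hy) _ _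
      · exact hu_inj η hη hy (hall η hη hy) _ (stalk_comp_eq_zero (kernel.condition u) η t)
    haveI : Mono (w ≫ z) := by rw [hz]; infer_instance
    haveI : Mono w := mono_of_mono w z
    haveI : IsIso w := isIso_of_mono_of_epi w
    haveI : Mono z := by
      have h : z = inv w ≫ u := by rw [← hz, IsIso.inv_hom_id_assoc]
      rw [h]; infer_instance
    exact IsZero.of_iso (isZero_zero _) (kernel.ofMono z)
  · have e1 := hμ.add (ShortComplex.ShortExact.mk (ShortComplex.exact_kernel (cokernel.π c)) :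
      (ShortComplex.mk (Abelian.image.ι c) (cokernel.π c) (kernel.condition _)).ShortExact) hA hGZ.2.1 hBcoh
    have e2 := hμ.add (ShortComplex.ShortExact.mk (ShortComplex.exact_kernel z) :
      (ShortComplex.mk (kernel.ι z) z (kernel.condition z)).ShortExact) hTcoh hBcoh hK'coh
    have e3 := hμ.add (ShortComplex.ShortExact.mk (ShortComplex.exact_kernel q) :
      (ShortComplex.mk (kernel.ι q) q (kernel.condition q)).ShortExact) hK'coh hGU.2.1 hGY.2.1
    have e4 := hμ.iso eA
    dsimp only at e1 e2 e3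
    constructor <;> omega

end

end Modif

end Groth.L15.TFCurve
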