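import Groth.Agent.L15.TFCurve.Fibre
import Groth.Agent.L16.Existence.FormalBasic
import Mathlib.RingTheory.Flat.Localization
import Mathlib.AlgebraicGeometry.StructureSheaf

/-!
# Modules over a scheme over a discrete valuation ring: the uniformiser on stalks
-/

set_option autoImplicit false
set_option linter.style.haveILetI false
set_option backward.isDefEq.respectTransparency false
set_option backward.isDefEq.respectTransparency.types false

universe u

open CategoryTheory CategoryTheory.Limits AlgebraicGeometry TopologicalSpace Opposite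

noncomputable section

namespace Groth.L15.TFCurve

open Groth.L21.Mod (stalkF)

variable {R : Type u} [CommRing R] {Y : Scheme.{u}} (f : Y ⟶ Spec (CommRingCat.of R))

theorem tGerm_pow (ϖ : R) (n : ℕ) (y : Y) : tGerm f (ϖ ^ n) y = tGerm f ϖ y ^ n := by
  simp only [tGerm, map_pow]

theorem tGerm_mul (a b : R) (y : Y) : tGerm f (a * b) y = tGerm f a y * tGerm f b y := by
  simp only [tGerm, map_mul]

variable [IsDomain R] [IsDiscreteValuationRing R] {ϖ : R} (hϖ : Irreducible ϖ)
include hϖ

/-- Outside the special fibre the uniformiser is invertible. -/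
theorem isUnit_tGerm {X : Scheme.{u}} (i : X ⟶ Y) (q : X ⟶ Spec (CommRingCat.of (IsLocalRing.ResidueField R)))
    (hsq : IsPullback i q f (Spec.map (CommRingCat.ofHom (IsLocalRing.residue R)))) {y : Y}
    (hy : y ∉ Set.range i) : IsUnit (tGerm f ϖ y) := by
  have hr : Set.range i = f ⁻¹' Set.range (Spec.map (CommRingCat.ofHom (IsLocalRing.residue R))) := by
    rw [← Scheme.Pullback.range_fst, ← hsq.isoPullback_hom_fst, Scheme.Hom.comp_base]
    exact (Scheme.Hom.surjective hsq.isoPullback.hom).range_comp _
  let p : PrimeSpectrum R := f y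
  have hp : ϖ ∉ p.asIdeal := fun h => hy (by
    rw [hr]
    refine ⟨(IsLocalRing.closedPoint (IsLocalRing.ResidueField R) : PrimeSpectrum (IsLocalRing.ResidueField R)), ?_⟩
    refine Eq.trans (IsLocalRing.comap_closedPoint (IsLocalRing.residue R)) (PrimeSpectrum.ext ?_).symm
    refine le_antisymm (IsLocalRing.le_maximalIdeal p.2.ne_top) ?_
    show IsLocalRing.maximalIdeal R ≤ p.asIdeal
    rw [hϖ.maximalIdeal_eq, Ideal.span_singleton_le_iff_mem]
    exact h)
  have hu : IsUnit (algebraMap R ((Spec.structureSheaf R).presheaf.stalk p) ϖ) :=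
    IsLocalization.map_units _ (⟨ϖ, hp⟩ : p.asIdeal.primeCompl)
  have h1 := hu.map (f.stalkMap y).hom
  exact Eq.subst (motive := fun a => IsUnit a) (Scheme.Hom.germ_stalkMap_apply f ⊤ y trivial _) h1

/-- A module on which the uniformiser is injective is flat over the base. -/
theorem isFlatOver_of_injective {M : Y.Modules}
    (h : ∀ y, Function.Injective fun m : M.presheaf.stalk y => tGerm f ϖ y • m) : FlatMod.IsFlatOver f M := by
  intro y
  let p : PrimeSpectrum R := f y
  let S := (Spec.structureSheaf R).presheaf.stalk p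
  letI : Module S (M.presheaf.stalk y) := FlatMod.moduleStalkOver f M y
  letI : Module R (M.presheaf.stalk y) := Module.compHom _ (algebraMap R S)
  haveI : IsScalarTower R S (M.presheaf.stalk y) := IsScalarTower.of_algebraMap_smul fun _ _ => rfl
  haveI : IsLocalization.AtPrime S p.asIdeal := StructureSheaf.IsLocalization.to_stalk R p
  show Module.Flat S (M.presheaf.stalk y)
  rw [Module.flat_iff_of_isLocalization S p.asIdeal.primeCompl]
  have hsm : ∀ (r : R) (m : M.presheaf.stalk y), r • m = tGerm f r y • m := fun r m => by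
    show (f.stalkMap y).hom (algebraMap R S r) • m = _
    congr 1
    exact Scheme.Hom.germ_stalkMap_apply f ⊤ y trivial _
  haveI : Module.IsTorsionFree R (M.presheaf.stalk y) := ⟨fun r hr => by
    obtain ⟨n, u, rfl⟩ := IsDiscreteValuationRing.eq_unit_mul_pow_irreducible hr.ne_zero hϖ
    intro a b hab
    dsimp only at hab
    rw [hsm, hsm, tGerm_mul, tGerm_pow, mul_smul, mul_smul] at hab
    have hu : IsUnit (tGerm f (u : R) y) := u.isUnit.map ((Y.presheaf.germ ⊤ y trivial).hom.comp (Coh.toGlobal f))
    exact (IsSMulRegular.pow n (show IsSMulRegular (M.presheaf.stalk y) (tGerm f ϖ y) from h y))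
      (hu.smul_left_cancel.1 hab)⟩
  infer_instance

end Groth.L15.TFCurve
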